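import Groth.Agent.Lib.Helper5.AL.AL8

universe u

namespace H5.AL

open AlgebraicGeometry CategoryTheory

variable {X Y : Scheme.{u}}

lemma formallyUnramified_stalkMap_iff {f : X ⟶ Y} {x : X} (U : Y.Opens)
      (hU : IsAffineOpen U) (V : X.Opens) (hV : IsAffineOpen V) (hVU : V ≤ f ⁻¹ᵁ U)
      (hx : x ∈ V) :
    letI := (f.appLE U V hVU).hom.toAlgebra
    (f.stalkMap x).hom.FormallyUnramified ↔
      hV.primeIdealOf ⟨x, hx⟩ ∈ Algebra.unramifiedLocus Γ(Y, U) Γ(X, V) := by
  let := (f.appLE U V hVU).hom.toAlgebra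
  let p := (hU.primeIdealOf ⟨f x, hVU hx⟩).asIdeal
  let q := (hV.primeIdealOf ⟨x, hx⟩).asIdeal
  have : q.LiesOver p :=
    ⟨congr($(IsAffineOpen.comap_primeIdealOf_appLE U hU V hV hVU hx).1).symm⟩
  let := Localization.AtPrime.algebraOfLiesOver p q
  trans Algebra.FormallyUnramified (Localization.AtPrime p) (Localization.AtPrime q)
  · rw [← RingHom.formallyUnramified_algebraMap]
    exact RingHom.FormallyUnramified.respectsIso.arrow_mk_iso_iff
      (IsAffineOpen.arrowStalkMapIso f U hU V hV hVU hx)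
  · exact ⟨fun _ => Algebra.FormallyUnramified.comp Γ(Y, U) (Localization.AtPrime p) _,
      fun (_ : Algebra.FormallyUnramified Γ(Y, U) (Localization.AtPrime q)) =>
        Algebra.FormallyUnramified.of_restrictScalars Γ(Y, U) _ _⟩


set_option backward.defeqAttrib.useBackward true in
set_option backward.isDefEq.respectTransparency false in
lemma exists_etale_nhd (f : X ⟶ Y) [LocallyOfFinitePresentation f] (x : X)
    (H1 : (f.stalkMap x).hom.FormallySmooth) (H2 : (f.stalkMap x).hom.FormallyUnramified) :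
    ∃ W : X.Opens, x ∈ W ∧ Etale (W.ι ≫ f) := by
  obtain ⟨_, ⟨U, hU, rfl⟩, hxU, -⟩ :=
    Y.isBasis_affineOpens.exists_subset_of_mem_open (Set.mem_univ (f x)) isOpen_univ
  obtain ⟨_, ⟨V, hV, rfl⟩, hxV, hVU⟩ :=
    X.isBasis_affineOpens.exists_subset_of_mem_open hxU (U.2.preimage f.continuous)
  have := f.finitePresentation_appLE hU hV hVU
  algebraize [(f.appLE U V hVU).hom]
  have h1 : Algebra.IsSmoothAt _ _ := (formallySmooth_stalkMap_iff U hU V hV hVU hxV).mp H1
  have h2 : Algebra.IsUnramifiedAt _ _ :=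
    (formallyUnramified_stalkMap_iff U hU V hV hVU hxV).mp H2
  have h3 : Algebra.IsEtaleAt Γ(Y, U) (hV.primeIdealOf ⟨x, hxV⟩).asIdeal :=
    Algebra.FormallyEtale.iff_formallyUnramified_and_formallySmooth.2 ⟨h2, h1⟩
  obtain ⟨r, hrx, hr⟩ := Algebra.exists_etale_of_isEtaleAt (R := Γ(Y, U))
    (hV.primeIdealOf ⟨x, hxV⟩).asIdeal
  have e : X.basicOpen r ≤ f ⁻¹ᵁ U := (X.basicOpen_le r).trans hVU
  refine ⟨X.basicOpen r, ?_, ?_⟩
  · rwa [← PrimeSpectrum.mem_basicOpen, IsAffineOpen.primeIdealOf,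
      ← hV.fromSpec_preimage_basicOpen, Scheme.Hom.mem_preimage, ← Scheme.Hom.comp_apply,
      IsAffineOpen.isoSpec_hom, IsAffineOpen.toSpecΓ_fromSpec] at hrx
  · rw [← Scheme.Hom.resLE_comp_ι f e]
    haveI : Etale (f.resLE U (X.basicOpen r) e) := by
      have : IsAffine _ := hU
      have : IsAffine _ := hV.basicOpen r
      rw [HasRingHomProperty.iff_of_isAffine (P := @Etale)]
      refine (RingHom.Etale.propertyIsLocal.respectsIso.arrow_mk_iso_iff
        (arrowResLEAppIso f U _ e)).mpr ?_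
      have := hV.isLocalization_basicOpen r
      rw [← RingHom.etale_algebraMap] at hr
      convert!
        RingHom.Etale.propertyIsLocal.respectsIso.1 _
          (IsLocalization.algEquiv (.powers r) _ Γ(X, X.basicOpen r)).toRingEquiv hr
      ext
      dsimp
      simp only [IsScalarTower.algebraMap_apply Γ(Y, U) Γ(X, V) (Localization _),
        IsLocalization.map_eq]
      simp only [RingHom.algebraMap_toAlgebra, RingHomCompTriple.comp_apply, ← ConcreteCategory.comp_apply,
        Scheme.Hom.appLE_map]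
    infer_instance


lemma formallyUnramified_stalkMap_comp {U : Scheme.{u}} (j : U ⟶ X) [IsOpenImmersion j]
    (f : X ⟶ Y) (y : U) :
    (f.stalkMap (j y)).hom.FormallyUnramified ↔ ((j ≫ f).stalkMap y).hom.FormallyUnramified := by
  refine (RingHom.FormallyUnramified.respectsIso.cancel_right_isIso _ (j.stalkMap y)).symm.trans ?_
  rw [← CommRingCat.hom_comp, ← Scheme.Hom.stalkMap_comp]
  rfl

theorem exists_etale_nhd_iff (f : X ⟶ Y) [LocallyOfFiniteType f] [IsLocallyNoetherian Y] (x : X) :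
    (∃ U : X.Opens, x ∈ U ∧ Etale (U.ι ≫ f)) ↔
      (f.stalkMap x).hom.FormallySmooth ∧ (f.stalkMap x).hom.FormallyUnramified := by
  constructor
  · rintro ⟨U, hxU, het⟩
    refine ⟨(exists_smooth_nhd_iff f x).1 ⟨U, hxU, inferInstance⟩, ?_⟩
    have h1 := FormallyUnramified.stalkMap (U.ι ≫ f) ⟨x, hxU⟩
    exact (formallyUnramified_stalkMap_comp U.ι f ⟨x, hxU⟩).2 h1
  · rintro ⟨h1, h2⟩
    exact exists_etale_nhd f x h1 h2

end H5.AL
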