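import Groth.Agent.Lib.Helper5.AL.AL5

universe u

namespace H5.AL

open Ideal IsLocalRing

/-- ring-level form of the Artinian lifting criterion for (formal) smoothness of an essentially
finite type local homomorphism. -/
theorem ring2793 {A B : Type u} [CommRing A] [CommRing B] [IsLocalRing A] [IsLocalRing B]
    [IsNoetherianRing A] (φ : A →+* B) [IsLocalHom φ] (hφ : φ.EssFiniteType) :
    φ.FormallySmooth ↔
      ∀ (A' : Type u) [CommRing A'] [IsLocalRing A'] [IsArtinianRing A']
        (h : A →+* A') [IsLocalHom h]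
        (I : Ideal A') (_ : I ≠ ⊤) (_ : I * IsLocalRing.maximalIdeal A' = ⊥)
        (g₀ : B →+* A' ⧸ I),
        g₀.comp φ = (Ideal.Quotient.mk I).comp h →
        (∀ b ∈ IsLocalRing.maximalIdeal B,
          g₀ b ∈ (IsLocalRing.maximalIdeal A').map (Ideal.Quotient.mk I)) →
        (∀ a' : A', ∃ b : B,
          g₀ b - Ideal.Quotient.mk I a' ∈ (IsLocalRing.maximalIdeal A').map (Ideal.Quotient.mk I)) →
        ∃ g : B →+* A', g.comp φ = h ∧ (Ideal.Quotient.mk I).comp g = g₀ := by
  letI := φ.toAlgebra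
  haveI : IsLocalHom (algebraMap A B) := ‹IsLocalHom φ›
  haveI : Algebra.EssFiniteType A B := hφ
  constructor
  · intro hfs A' _ _ _ h _ I hI hIm g₀ hcomp _ _
    haveI : Algebra.FormallySmooth A B := hfs
    letI := h.toAlgebra
    have hIle : I ≤ maximalIdeal A' := IsLocalRing.le_maximalIdeal hI
    have hnil : IsNilpotent I := by
      refine ⟨2, ?_⟩
      rw [Ideal.zero_eq_bot, eq_bot_iff, pow_two, ← hIm]
      exact Ideal.mul_mono_right hIle
    let g₀' : B →ₐ[A] A' ⧸ I :=
      { g₀ with
        commutes' := fun a => by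
          have := RingHom.congr_fun hcomp a
          exact this }
    refine ⟨(Algebra.FormallySmooth.lift I hnil g₀').toRingHom, ?_, ?_⟩
    · ext a
      exact (Algebra.FormallySmooth.lift I hnil g₀').commutes a
    · ext b
      exact Algebra.FormallySmooth.mk_lift I hnil g₀' b
  · intro H
    change Algebra.FormallySmooth A B
    haveI : IsNoetherianRing B := Algebra.EssFiniteType.isNoetherianRing A B
    apply Groth.Agent.H5.Jac.formallySmooth_of_isAdicFormallySmooth_of_essFiniteType
    apply isAdicFormallySmooth_of_smallLift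
    intro A'' A₀ _ _ _ _ q₀ hq₀ 𝔐 h𝔐 t ht hkerq hann ψ hψs hψk
    obtain ⟨hlA, haA, hlA₀, haA₀⟩ := small_ext_artinian_local q₀.toRingHom hq₀ 𝔐 t ht hkerq hann
      ψ.toRingHom hψs hψk
    have h𝔐eq : 𝔐 = maximalIdeal A'' := IsLocalRing.eq_maximalIdeal h𝔐
    haveI hlocψ : IsLocalHom ψ.toRingHom := IsLocalHom.of_surjective ψ.toRingHom hψs
    haveI hlocRA : IsLocalHom (algebraMap A A'') := by
      have h1 : q₀.toRingHom.comp (algebraMap A A'') = ψ.toRingHom.comp (algebraMap A B) := by
        ext r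
        simp
      haveI : IsLocalHom (q₀.toRingHom.comp (algebraMap A A'')) := by
        rw [h1]; infer_instance
      exact isLocalHom_of_comp (algebraMap A A'') q₀.toRingHom
    set J : Ideal A'' := Ideal.span {t} with hJ
    have hJle : J ≤ 𝔐 := (Ideal.span_singleton_le_iff_mem _).2 ht
    have hJtop : J ≠ ⊤ := fun h1 => h𝔐.ne_top (top_le_iff.1 (h1 ▸ hJle))
    have hJm : J * maximalIdeal A'' = ⊥ := by
      rw [eq_bot_iff, Ideal.mul_le]
      intro a ha m hm
      obtain ⟨c, rfl⟩ := Ideal.mem_span_singleton'.1 ha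
      rw [Ideal.mem_bot]
      calc c * t * m = c * (m * t) := by ring
        _ = 0 := by rw [hann m (h𝔐eq ▸ hm), mul_zero]
    let e : (A'' ⧸ J) ≃ₐ[A] A₀ :=
      (Ideal.quotientEquivAlgOfEq A hkerq.symm).trans (Ideal.quotientKerAlgEquivOfSurjective hq₀)
    have he : ∀ a, e (Ideal.Quotient.mk J a) = q₀ a := fun a => rfl
    let g₀ : B →+* A'' ⧸ J := (e.symm.toAlgHom.comp ψ).toRingHom
    have hg₀s : Function.Surjective g₀ := e.symm.surjective.comp hψs
    haveI : Nontrivial (A'' ⧸ J) := Ideal.Quotient.nontrivial_iff.2 hJtop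
    haveI : IsLocalRing (A'' ⧸ J) :=
      IsLocalRing.of_surjective' (Ideal.Quotient.mk J) Ideal.Quotient.mk_surjective
    haveI : IsLocalHom g₀ := IsLocalHom.of_surjective g₀ hg₀s
    haveI : IsLocalHom (Ideal.Quotient.mk J) :=
      IsLocalHom.of_surjective _ Ideal.Quotient.mk_surjective
    have hmapm : (maximalIdeal A'').map (Ideal.Quotient.mk J) = maximalIdeal (A'' ⧸ J) := by
      apply le_antisymm (IsLocalRing.map_maximalIdeal_le _)
      intro x hx
      obtain ⟨a, rfl⟩ := Ideal.Quotient.mk_surjective x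
      apply Ideal.mem_map_of_mem
      intro hu
      exact hx (hu.map _)
    obtain ⟨g, hg1, hg2⟩ := H A'' (algebraMap A A'') J hJtop hJm g₀ (by
        ext a
        change g₀ (algebraMap A B a) = Ideal.Quotient.mk J (algebraMap A A'' a)
        exact (e.symm.toAlgHom.comp ψ).commutes a)
      (fun b hb => by
        rw [hmapm]
        exact map_nonunit g₀ b hb)
      (fun a' => by
        obtain ⟨b, hb⟩ := hg₀s (Ideal.Quotient.mk J a')
        exact ⟨b, by rw [hb, sub_self]; exact zero_mem _⟩)
    refine ⟨{ g with commutes' := fun a => RingHom.congr_fun hg1 a }, ?_⟩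
    ext s
    have h1 : Ideal.Quotient.mk J (g s) = e.symm (ψ s) := RingHom.congr_fun hg2 s
    change q₀ (g s) = ψ s
    rw [← he, h1]
    exact e.apply_symm_apply (ψ s)

end H5.AL
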