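import Mathlib

universe u

namespace H5.AL

open Ideal

section retraction

variable {E : Type u} [CommRing E] (𝔐 : Ideal E) [h𝔐 : 𝔐.IsMaximal]
  {V : Type u} [AddCommGroup V] [Module E V]

theorem exists_retraction (hV : ∀ m ∈ 𝔐, ∀ v : V, m • v = 0) :
    ∃ (Λ : Type u) (ι : V →ₗ[E] (Λ → E ⧸ 𝔐)) (r : (Λ → E ⧸ 𝔐) →ₗ[E] V), ∀ v, r (ι v) = v := by
  letI : Field (E ⧸ 𝔐) := Ideal.Quotient.field 𝔐
  have htors : Module.IsTorsionBySet E V (𝔐 : Set E) := fun v a => hV a.1 a.2 v
  letI : Module (E ⧸ 𝔐) V := htors.module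
  haveI : IsScalarTower E (E ⧸ 𝔐) V := htors.isScalarTower
  let ικ : V →ₗ[E ⧸ 𝔐] (Module.Dual (E ⧸ 𝔐) V → E ⧸ 𝔐) := LinearMap.pi fun l => l
  have hinj : LinearMap.ker ικ = ⊥ := by
    rw [LinearMap.ker_eq_bot']
    intro v hv
    rw [← Module.forall_dual_apply_eq_zero_iff (E ⧸ 𝔐)]
    intro φ
    exact congrFun hv φ
  obtain ⟨g, hg⟩ := LinearMap.exists_leftInverse_of_injective ικ hinj
  refine ⟨Module.Dual (E ⧸ 𝔐) V, ικ.restrictScalars E, g.restrictScalars E, fun v => ?_⟩
  exact LinearMap.congr_fun hg v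

end retraction

section core

variable {R S Q E : Type u} [CommRing R] [CommRing S] [CommRing Q] [CommRing E]
  [Algebra R S] [Algebra R Q] [Algebra R E]

/-- difference of two elements with the same image, as an element of the kernel. -/
def dK (π : E →ₐ[R] Q) (x y : E) (h : π x = π y) : ↥(RingHom.ker π) :=
  ⟨x - y, by rw [RingHom.mem_ker, map_sub, sub_eq_zero]; exact h⟩

theorem exists_lift_of_forall_hyperplane
    (p : S →ₐ[R] Q) (π : E →ₐ[R] Q) (hπ : Function.Surjective π)
    (𝔐 : Ideal E) [𝔐.IsMaximal] (hle : RingHom.ker π ≤ 𝔐)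
    (hann : ∀ m ∈ 𝔐, ∀ v ∈ RingHom.ker π, m * v = 0)
    (H : ∀ W : Ideal E, W ≤ RingHom.ker π →
        (∃ t ∈ RingHom.ker π, RingHom.ker π ≤ W ⊔ Ideal.span {t}) →
        ∃ χ : S →ₐ[R] E ⧸ W, ∀ s, ∃ e, π e = p s ∧ Ideal.Quotient.mk W e = χ s) :
    ∃ χ : S →ₐ[R] E, π.comp χ = p := by
  classical
  obtain ⟨Λ, ι, r, hr⟩ := exists_retraction (V := ↥(RingHom.ker π)) 𝔐
    (fun m hm v => Subtype.ext (by simpa using hann m hm v.1 v.2))
  -- the hyperplanes
  let W : Λ → Ideal E := fun l =>
    Submodule.map (Submodule.subtype (RingHom.ker π)) (LinearMap.ker ((LinearMap.proj l).comp ι))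
  have memW : ∀ l x, x ∈ W l ↔ ∃ h : x ∈ RingHom.ker π, ι ⟨x, h⟩ l = 0 := by
    intro l x
    constructor
    · rintro ⟨y, hy, rfl⟩
      exact ⟨y.2, hy⟩
    · rintro ⟨h, hx⟩
      exact ⟨⟨x, h⟩, hx, rfl⟩
  have hWle : ∀ l, W l ≤ RingHom.ker π := fun l x hx => ((memW l x).1 hx).1
  have hWt : ∀ l, ∃ t ∈ RingHom.ker π, RingHom.ker π ≤ W l ⊔ Ideal.span {t} := by
    intro l
    by_cases h0 : ∀ v : ↥(RingHom.ker π), ι v l = 0
    · refine ⟨0, zero_mem _, fun x hx => ?_⟩
      exact Submodule.mem_sup_left ((memW l x).2 ⟨hx, h0 _⟩)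
    · push Not at h0
      obtain ⟨v₁, hv₁⟩ := h0
      refine ⟨v₁.1, v₁.2, fun x hx => ?_⟩
      letI : Field (E ⧸ 𝔐) := Ideal.Quotient.field 𝔐
      obtain ⟨a, ha⟩ := Ideal.Quotient.mk_surjective (ι ⟨x, hx⟩ l / ι v₁ l)
      have hxa : x - a * v₁.1 ∈ W l := by
        rw [memW]
        refine ⟨sub_mem hx (Ideal.mul_mem_left _ _ v₁.2), ?_⟩
        have : (⟨x - a * v₁.1, sub_mem hx (Ideal.mul_mem_left _ _ v₁.2)⟩ : ↥(RingHom.ker π))
            = ⟨x, hx⟩ - a • v₁ := Subtype.ext (by simp)
        rw [this, map_sub, map_smul, Pi.sub_apply, Pi.smul_apply, Algebra.smul_def]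
        change _ - Ideal.Quotient.mk 𝔐 a * _ = 0
        rw [ha, div_mul_cancel₀ _ hv₁, sub_self]
      have : x = (x - a * v₁.1) + a * v₁.1 := by ring
      rw [this]
      exact Submodule.add_mem_sup hxa (Ideal.mul_mem_left _ _ (Ideal.subset_span rfl))
  choose χl hχl using fun l => H (W l) (hWle l) (hWt l)
  choose f hf1 hf2 using hχl
  -- f l s : E lifts χl l s with π (f l s) = p s
  let e₀ : S → E := fun s => Function.surjInv hπ (p s)
  have he₀ : ∀ s, π (e₀ s) = p s := fun s => Function.surjInv_eq hπ (p s)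
  let c : S → Λ → E ⧸ 𝔐 := fun s l => ι (dK π (f l s) (e₀ s) ((hf1 l s).trans (he₀ s).symm)) l
  let χ : S → E := fun s => e₀ s + (r (c s)).1
  -- key lemma
  have key : ∀ (s : S) (e : E) (he : π e = p s) (g : Λ → E) (hg1 : ∀ l, π (g l) = p s)
      (hg2 : ∀ l, Ideal.Quotient.mk (W l) (g l) = χl l s),
      χ s = e + (r (fun l => ι (dK π (g l) e ((hg1 l).trans he.symm)) l)).1 := by
    intro s e he g hg1 hg2
    have h1 : (fun l => ι (dK π (g l) e ((hg1 l).trans he.symm)) l)
        = c s + ι (dK π (e₀ s) e ((he₀ s).trans he.symm)) := by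
      funext l
      have hgl : g l - f l s ∈ W l := by
        rw [← Ideal.Quotient.eq, hg2, hf2]
      obtain ⟨hk, hz⟩ := (memW l _).1 hgl
      have : dK π (g l) e ((hg1 l).trans he.symm)
          = ⟨g l - f l s, hk⟩ + dK π (f l s) (e₀ s) ((hf1 l s).trans (he₀ s).symm)
            + dK π (e₀ s) e ((he₀ s).trans he.symm) := Subtype.ext (by simp [dK])
      rw [this, map_add, map_add, Pi.add_apply, Pi.add_apply, hz, zero_add]
      rfl
    rw [h1, map_add, hr]
    simp only [χ, dK, Submodule.coe_add]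
    ring
  have hVsq : ∀ x ∈ RingHom.ker π, ∀ y ∈ RingHom.ker π, x * y = 0 :=
    fun x hx y hy => hann x (hle hx) y hy
  have hπχ : ∀ s, π (χ s) = p s := by
    intro s
    simp only [χ, map_add, he₀]
    have := (r (c s)).2
    rw [RingHom.mem_ker] at this
    rw [this, add_zero]
  have key0 : ∀ (s : S) (e : E) (he : π e = p s)
      (hg2 : ∀ l, Ideal.Quotient.mk (W l) e = χl l s), χ s = e := by
    intro s e he hg2
    rw [key s e he (fun _ => e) (fun _ => he) hg2]
    have h0 : dK π e e rfl = 0 := Subtype.ext (by simp [dK])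
    have : (fun l => ι (dK π e e rfl) l) = 0 := by
      funext l
      rw [h0, map_zero]
    rw [this, map_zero]
    simp
  have hone : χ 1 = 1 := key0 1 1 (by simp) (fun l => by simp)
  have hadd : ∀ s s', χ (s + s') = χ s + χ s' := by
    intro s s'
    rw [key (s + s') (e₀ s + e₀ s') (by simp [he₀]) (fun l => f l s + f l s')
      (fun l => by simp [hf1]) (fun l => by simp [hf2])]
    have : (fun l => ι (dK π ((fun l => f l s + f l s') l) (e₀ s + e₀ s')
        (((fun l => by simp [hf1] : ∀ l, π (f l s + f l s') = p (s + s')) l).trans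
          ((by simp [he₀] : π (e₀ s + e₀ s') = p (s + s'))).symm)) l) = c s + c s' := by
      funext l
      have : dK π (f l s + f l s') (e₀ s + e₀ s')
          (((by simp [hf1] : π (f l s + f l s') = p (s + s'))).trans
          ((by simp [he₀] : π (e₀ s + e₀ s') = p (s + s'))).symm)
          = dK π (f l s) (e₀ s) ((hf1 l s).trans (he₀ s).symm)
            + dK π (f l s') (e₀ s') ((hf1 l s').trans (he₀ s').symm) :=
        Subtype.ext (by simp [dK]; ring)
      rw [this, map_add]
      rfl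
    rw [this, map_add]
    simp only [χ, Submodule.coe_add]
    ring
  have hmul : ∀ s s', χ (s * s') = χ s * χ s' := by
    intro s s'
    rw [key (s * s') (e₀ s * e₀ s') (by simp [he₀]) (fun l => f l s * f l s')
      (fun l => by simp [hf1]) (fun l => by simp [hf2])]
    have : (fun l => ι (dK π ((fun l => f l s * f l s') l) (e₀ s * e₀ s')
        (((fun l => by simp [hf1] : ∀ l, π (f l s * f l s') = p (s * s')) l).trans
          ((by simp [he₀] : π (e₀ s * e₀ s') = p (s * s'))).symm)) l)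
          = e₀ s' • c s + e₀ s • c s' := by
      funext l
      have : dK π (f l s * f l s') (e₀ s * e₀ s')
          (((by simp [hf1] : π (f l s * f l s') = p (s * s'))).trans
          ((by simp [he₀] : π (e₀ s * e₀ s') = p (s * s'))).symm)
          = f l s' • dK π (f l s) (e₀ s) ((hf1 l s).trans (he₀ s).symm)
            + e₀ s • dK π (f l s') (e₀ s') ((hf1 l s').trans (he₀ s').symm) :=
        Subtype.ext (by simp [dK]; ring)
      rw [this, map_add, map_smul, map_smul]
      simp only [Pi.add_apply, Pi.smul_apply, c]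
      congr 1
      rw [Algebra.smul_def, Algebra.smul_def]
      congr 1
      change Ideal.Quotient.mk 𝔐 (f l s') = Ideal.Quotient.mk 𝔐 (e₀ s')
      rw [Ideal.Quotient.eq]
      apply hle
      rw [RingHom.mem_ker, map_sub, sub_eq_zero]
      exact (hf1 l s').trans (he₀ s').symm
    rw [this, map_add, map_smul, map_smul]
    simp only [χ, Submodule.coe_add, Submodule.coe_smul, smul_eq_mul]
    have := hVsq _ (r (c s)).2 _ (r (c s')).2
    linear_combination -this
  have halg : ∀ a : R, χ (algebraMap R S a) = algebraMap R E a := by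
    intro a
    refine key0 (algebraMap R S a) (algebraMap R E a) (by simp) (fun l => ?_)
    rw [AlgHom.commutes]; rfl
  have hzero : χ 0 = 0 := by
    have := hadd 0 0
    rw [add_zero] at this
    exact left_eq_add.mp this
  refine ⟨{ toFun := χ, map_one' := hone, map_mul' := hmul, map_zero' := hzero, map_add' := hadd,
            commutes' := halg }, ?_⟩
  ext s
  exact hπχ s

end core

end H5.AL
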