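import Groth.Agent.Lib.Helper5.CA.NG35
import Groth.Agent.Lib.Helper5.CA.GR3
import Groth.Agent.Lib.Helper5.FSm.FlatFibre
import Groth.Agent.Lib.Helper7.Reg1
import Groth.Prelude.Def_EtRam

universe u

namespace H5.AL

open IsLocalRing

section
variable {A B : Type u} [CommRing A] [CommRing B] [IsLocalRing A] [IsLocalRing B] [Algebra A B]
  [IsLocalHom (algebraMap A B)]

/-- the algebra structure of the closed fibre over the residue field. -/
noncomputable abbrev fibAlg : Algebra (ResidueField A) (B ⧸ (maximalIdeal A).map (algebraMap A B)) :=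
  inferInstanceAs (Algebra (A ⧸ maximalIdeal A) (B ⧸ (maximalIdeal A).map (algebraMap A B)))

attribute [local instance] fibAlg

theorem map_le_maximalIdeal : (maximalIdeal A).map (algebraMap A B) ≤ maximalIdeal B :=
  IsLocalRing.map_maximalIdeal_le (algebraMap A B)

/-- closed fibre → residue field. -/
noncomputable def fibToRes :
    (B ⧸ (maximalIdeal A).map (algebraMap A B)) →ₐ[ResidueField A] ResidueField B where
  toRingHom := Ideal.Quotient.factor map_le_maximalIdeal
  commutes' r := by
    obtain ⟨a, rfl⟩ := IsLocalRing.residue_surjective r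
    rfl

/-- residue field → closed fibre, when the fibre is a field. -/
noncomputable def resToFib (h : maximalIdeal B ≤ (maximalIdeal A).map (algebraMap A B)) :
    ResidueField B →ₐ[ResidueField A] (B ⧸ (maximalIdeal A).map (algebraMap A B)) where
  toRingHom := Ideal.Quotient.factor h
  commutes' r := by
    obtain ⟨a, rfl⟩ := IsLocalRing.residue_surjective r
    rfl


theorem maximalIdeal_fibre :
    maximalIdeal (B ⧸ (maximalIdeal A).map (algebraMap A B)) =
      (maximalIdeal B).map (Ideal.Quotient.mk ((maximalIdeal A).map (algebraMap A B))) := by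
  haveI : IsLocalHom (Ideal.Quotient.mk ((maximalIdeal A).map (algebraMap A B))) :=
    IsLocalHom.of_surjective _ Ideal.Quotient.mk_surjective
  apply le_antisymm
  · intro x hx
    obtain ⟨b, rfl⟩ := Ideal.Quotient.mk_surjective x
    apply Ideal.mem_map_of_mem
    intro hu
    exact hx (hu.map _)
  · exact IsLocalRing.map_maximalIdeal_le _

end

section main

attribute [local instance] fibAlg

theorem main7134 (A B : Type u) [CommRing A]
    [IsDomain A] [IsDiscreteValuationRing A] [CommRing B] [IsDomain B] [IsDiscreteValuationRing B]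
    [Algebra A B]
    (hinj : Function.Injective (algebraMap A B)) [IsLocalHom (algebraMap A B)] :
    CAlgX.IsAdicFormallySmooth A B (IsLocalRing.maximalIdeal B) ↔
      EtRam.IsWeaklyUnramified A B ∧
        Algebra.IsGeometricallyReduced (IsLocalRing.ResidueField A) (IsLocalRing.ResidueField B) := by
  have hIle : (maximalIdeal A).map (algebraMap A B) ≤ maximalIdeal B := map_le_maximalIdeal
  have hItop : (maximalIdeal A).map (algebraMap A B) ≠ ⊤ :=
    fun h => (maximalIdeal.isMaximal B).ne_top (top_le_iff.1 (h ▸ hIle))
  haveI : Nontrivial (B ⧸ (maximalIdeal A).map (algebraMap A B)) :=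
    Ideal.Quotient.nontrivial_iff.2 hItop
  haveI : IsLocalRing (B ⧸ (maximalIdeal A).map (algebraMap A B)) :=
    IsLocalRing.of_surjective' (Ideal.Quotient.mk _) Ideal.Quotient.mk_surjective
  constructor
  · intro h
    have h₀ : CAlgX.IsAdicFormallySmooth (ResidueField A)
        (B ⧸ (maximalIdeal A).map (algebraMap A B))
        (maximalIdeal (B ⧸ (maximalIdeal A).map (algebraMap A B))) := by
      rw [maximalIdeal_fibre]
      exact H5.NG.isAdicFormallySmooth_quotient_map (maximalIdeal A) (maximalIdeal B) h
    haveI hreg : IsRegularLocalRing (B ⧸ (maximalIdeal A).map (algebraMap A B)) :=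
      Groth.Agent.H5.GR.isRegularLocalRing_of_isAdicFormallySmooth (ResidueField A) _ h₀
    haveI : IsDomain (B ⧸ (maximalIdeal A).map (algebraMap A B)) := Groth.Agent.H7.Reg.isDomain _
    have hprime : ((maximalIdeal A).map (algebraMap A B)).IsPrime :=
      (Ideal.Quotient.isDomain_iff_prime _).1 inferInstance
    have hI0 : (maximalIdeal A).map (algebraMap A B) ≠ ⊥ := by
      obtain ⟨ϖ, hϖ⟩ := IsDiscreteValuationRing.exists_irreducible A
      have h1 : ϖ ∈ maximalIdeal A := hϖ.not_isUnit
      have h2 : algebraMap A B ϖ ∈ (maximalIdeal A).map (algebraMap A B) :=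
        Ideal.mem_map_of_mem _ h1
      intro h3
      rw [h3, Ideal.mem_bot] at h2
      exact hϖ.ne_zero (hinj (by rw [h2, map_zero]))
    have hmax : ((maximalIdeal A).map (algebraMap A B)).IsMaximal := hprime.isMaximal hI0
    have hIeq : (maximalIdeal A).map (algebraMap A B) = maximalIdeal B :=
      IsLocalRing.eq_maximalIdeal hmax
    refine ⟨hIeq, ?_⟩
    letI : Field (B ⧸ (maximalIdeal A).map (algebraMap A B)) := Ideal.Quotient.field _
    haveI : Algebra.IsGeometricallyReduced (ResidueField A)
        (B ⧸ (maximalIdeal A).map (algebraMap A B)) :=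
      Groth.Agent.H5.GR.isGeometricallyReduced_subfield (k := ResidueField A)
        (A := B ⧸ (maximalIdeal A).map (algebraMap A B))
        (K := B ⧸ (maximalIdeal A).map (algebraMap A B)) h₀
    exact Algebra.IsGeometricallyReduced.of_injective (resToFib hIeq.ge) (RingHom.injective _)
  · rintro ⟨hwu, hsep⟩
    have hIeq : (maximalIdeal A).map (algebraMap A B) = maximalIdeal B := hwu
    haveI hmax : ((maximalIdeal A).map (algebraMap A B)).IsMaximal :=
      hIeq ▸ maximalIdeal.isMaximal B
    letI : Field (B ⧸ (maximalIdeal A).map (algebraMap A B)) := Ideal.Quotient.field _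
    haveI : Algebra.IsGeometricallyReduced (ResidueField A)
        (B ⧸ (maximalIdeal A).map (algebraMap A B)) :=
      Algebra.IsGeometricallyReduced.of_injective (fibToRes (A := A) (B := B))
        (RingHom.injective _)
    haveI : Algebra.FormallySmooth (ResidueField A)
        (B ⧸ (maximalIdeal A).map (algebraMap A B)) :=
      Groth.Agent.H5.formallySmooth_of_isGeometricallyReduced' _ _
    haveI : Module.Flat A B := by
      haveI : Module.IsTorsionFree A B := by
        apply Module.IsTorsionFree.of_smul_eq_zero
        intro r m hrm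
        rw [Algebra.smul_def, mul_eq_zero] at hrm
        rcases hrm with h1 | h1
        · left
          exact hinj (by rw [h1, map_zero])
        · right; exact h1
      infer_instance
    apply Groth.Agent.H5.FSm.isAdicFormallySmooth_of_flat_of_fibre
    exact Groth.Agent.H5.GR.isAdicFormallySmooth_of_formallySmooth (ResidueField A)
      (B ⧸ (maximalIdeal A).map (algebraMap A B)) _

end main

end H5.AL
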