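import Groth.Agent.Lib.Helper5.AL.AL6
import Groth.Prelude.Def_Exal

universe u

namespace H5.AL

open Ideal IsLocalRing

/-- a ring surjecting onto a Noetherian ring with Noetherian kernel is Noetherian. -/
theorem isNoetherianRing_of_surjective_of_ker {E R : Type u} [CommRing E] [CommRing R]
    (p : E →+* R) (hp : Function.Surjective p) [IsNoetherianRing R]
    (hker : IsNoetherian E (RingHom.ker p)) : IsNoetherianRing E := by
  letI : Algebra E R := p.toAlgebra
  have hER : IsNoetherian E R := by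
    rw [isNoetherian_def]
    intro s
    let s' : Ideal R :=
      { carrier := s
        add_mem' := s.add_mem
        zero_mem' := s.zero_mem
        smul_mem' := fun c x hx => by
          obtain ⟨e, rfl⟩ := hp c
          have := s.smul_mem e hx
          rwa [Algebra.smul_def] at this }
    obtain ⟨S, hS⟩ := (IsNoetherian.noetherian s' : s'.FG)
    refine ⟨S, ?_⟩
    apply le_antisymm
    · rw [Submodule.span_le]
      intro x hx
      have : x ∈ s' := hS ▸ Submodule.subset_span hx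
      exact this
    · intro x hx
      have hx' : x ∈ Submodule.span R (S : Set R) := by
        rw [hS]; exact hx
      clear hx
      induction hx' using Submodule.span_induction with
      | mem y hy => exact Submodule.subset_span hy
      | zero => exact zero_mem _
      | add y z _ _ hy hz => exact add_mem hy hz
      | smul r y _ hy =>
        obtain ⟨e, rfl⟩ := hp r
        have := Submodule.smul_mem _ e hy
        rwa [Algebra.smul_def] at this
  exact isNoetherian_of_range_eq_ker (Submodule.subtype (RingHom.ker p)) (Algebra.linearMap E R)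
    (by
      ext x
      simp only [Submodule.range_subtype, LinearMap.mem_ker, Algebra.linearMap_apply]
      rfl)

/-- a principal ideal killed by a maximal ideal is a Noetherian module. -/
theorem isNoetherian_span_of_ann {E : Type u} [CommRing E] (𝔫 : Ideal E) [h𝔫 : 𝔫.IsMaximal] (t : E)
    (hann : ∀ m ∈ 𝔫, m * t = 0) : IsNoetherian E (Ideal.span {t} : Ideal E) := by
  rw [isNoetherian_submodule]
  intro s hs
  by_cases h0 : s = ⊥
  · rw [h0]; exact Submodule.fg_bot
  · have hst : t ∈ s := by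
      obtain ⟨x, hx, hx0⟩ := (Submodule.ne_bot_iff s).1 h0
      obtain ⟨a, rfl⟩ := Ideal.mem_span_singleton'.1 (hs hx)
      have ha : a ∉ 𝔫 := fun ha => hx0 (hann a ha)
      obtain ⟨b, c, hc, hb⟩ := h𝔫.exists_inv ha
      have : t = b * (a * t) := by
        calc t = (b * a + c) * t := by rw [hb, one_mul]
          _ = b * (a * t) + c * t := by ring
          _ = b * (a * t) := by rw [hann c hc, add_zero]
      rw [this]
      exact s.smul_mem b hx
    have : s = Ideal.span {t} := le_antisymm hs ((Ideal.span_singleton_le_iff_mem (I := s)).2 hst)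
    rw [this]
    exact ⟨{t}, by simp⟩


theorem exists_section_of_smallLift {Λ R E : Type u} [CommRing Λ] [CommRing R] [CommRing E]
    [Algebra Λ R] [Algebra Λ E] [IsLocalRing R] [IsNoetherianRing R]
    (hSL : SmallLift Λ R (maximalIdeal R))
    (p : E →ₐ[Λ] R) (hp : Function.Surjective p) (t : E) (hker : RingHom.ker p = Ideal.span {t})
    (hann : ∀ m, p m ∈ maximalIdeal R → m * t = 0) :
    ∃ s : R →ₐ[Λ] E, ∀ r, p (s r) = r := by
  by_cases ht0 : t = 0
  · have hinj : Function.Injective p := by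
      rw [injective_iff_map_eq_zero]
      intro a ha
      have : a ∈ RingHom.ker p := ha
      rw [hker, ht0] at this
      simpa using this
    let e : E ≃ₐ[Λ] R := AlgEquiv.ofBijective p ⟨hinj, hp⟩
    exact ⟨e.symm.toAlgHom, fun r => e.apply_symm_apply r⟩
  set 𝔫 : Ideal E := Ideal.comap p (maximalIdeal R) with h𝔫def
  haveI h𝔫 : 𝔫.IsMaximal := Ideal.comap_isMaximal_of_surjective p hp
  have hmem𝔫 : ∀ m, m ∈ 𝔫 ↔ p m ∈ maximalIdeal R := fun m => Iff.rfl
  have hmemker : ∀ a, p a = 0 ↔ a ∈ Ideal.span {t} := fun a => by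
    rw [← hker, RingHom.mem_ker]
  have hpt : p t = 0 := (hmemker t).2 (Ideal.subset_span rfl)
  have ht𝔫 : t ∈ 𝔫 := by rw [hmem𝔫, hpt]; exact zero_mem _
  have htt : t * t = 0 := hann t ht𝔫
  have hsq : ∀ x y, p x = 0 → p y = 0 → x * y = 0 := by
    intro x y hx hy
    rw [hmemker] at hx hy
    obtain ⟨a, rfl⟩ := Ideal.mem_span_singleton'.1 hx
    obtain ⟨b, rfl⟩ := Ideal.mem_span_singleton'.1 hy
    calc a * t * (b * t) = a * b * (t * t) := by ring
      _ = 0 := by rw [htt, mul_zero]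
  haveI hlocp : IsLocalHom p.toRingHom := isLocalHom_of_sq_zero p.toRingHom hp hsq
  haveI hlocE : IsLocalRing E := RingHom.domain_isLocalRing p.toRingHom
  have h𝔫eq : 𝔫 = maximalIdeal E := IsLocalRing.eq_maximalIdeal h𝔫
  haveI hnoeth : IsNoetherianRing E := by
    apply isNoetherianRing_of_surjective_of_ker p.toRingHom hp
    have : RingHom.ker p.toRingHom = Ideal.span {t} := hker
    rw [this]
    exact isNoetherian_span_of_ann 𝔫 t (fun m hm => hann m hm)
  -- Krull
  obtain ⟨n, hn⟩ : ∃ n : ℕ, t ∉ 𝔫 ^ n := by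
    by_contra hcon
    push Not at hcon
    have h1 : t ∈ ⨅ n : ℕ, 𝔫 ^ n := by
      rw [Ideal.mem_iInf]; exact hcon
    rw [h𝔫eq, Ideal.iInf_pow_eq_bot_of_isLocalRing _ (maximalIdeal.isMaximal E).ne_top,
      Ideal.mem_bot] at h1
    exact ht0 h1
  have hzero : ∀ x, p x = 0 → x ∈ 𝔫 ^ n → x = 0 := by
    intro x hx hxn
    rw [hmemker] at hx
    obtain ⟨a, rfl⟩ := Ideal.mem_span_singleton'.1 hx
    by_cases ha : a ∈ 𝔫
    · exact hann a ha
    · exfalso
      obtain ⟨b, c, hc, hb⟩ := h𝔫.exists_inv ha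
      have : t = b * (a * t) := by
        calc t = (b * a + c) * t := by rw [hb, one_mul]
          _ = b * (a * t) + c * t := by ring
          _ = b * (a * t) := by rw [hann c hc, add_zero]
      exact hn (this ▸ Ideal.mul_mem_left _ b hxn)
  have hmap𝔫 : Ideal.map p (𝔫 ^ n) = maximalIdeal R ^ n := by
    rw [Ideal.map_pow, h𝔫def, Ideal.map_comap_of_surjective p hp]
  have hle : 𝔫 ^ n ≤ Ideal.comap p (maximalIdeal R ^ n) := by
    rw [← Ideal.map_le_iff_le_comap, hmap𝔫]
  let q : E ⧸ 𝔫 ^ n →ₐ[Λ] R ⧸ maximalIdeal R ^ n := Ideal.quotientMapₐ (maximalIdeal R ^ n) p hle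
  have hq : ∀ e, q (Ideal.Quotient.mk _ e) = Ideal.Quotient.mk _ (p e) := fun e => rfl
  have hqs : Function.Surjective q := by
    intro x
    obtain ⟨r, rfl⟩ := Ideal.Quotient.mk_surjective x
    obtain ⟨e, rfl⟩ := hp r
    exact ⟨Ideal.Quotient.mk _ e, rfl⟩
  have hrep : ∀ x : E ⧸ 𝔫 ^ n, q x = 0 → ∃ u, p u = 0 ∧ Ideal.Quotient.mk _ u = x := by
    intro x hx
    obtain ⟨e, rfl⟩ := Ideal.Quotient.mk_surjective x
    rw [hq, Ideal.Quotient.eq_zero_iff_mem, ← hmap𝔫] at hx
    obtain ⟨e', he', hpe'⟩ := (Ideal.mem_map_iff_of_surjective p hp).1 hx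
    refine ⟨e - e', by rw [map_sub, hpe', sub_self], ?_⟩
    rw [map_sub, Ideal.Quotient.eq_zero_iff_mem.2 he', sub_zero]
  have hsqq : ∀ x y, q x = 0 → q y = 0 → x * y = 0 := by
    intro x y hx hy
    obtain ⟨u, hu, rfl⟩ := hrep x hx
    obtain ⟨v, hv, rfl⟩ := hrep y hy
    rw [← map_mul, hsq u v hu hv, map_zero]
  obtain ⟨χ, hχ⟩ := exists_lift_of_smallLift hSL q hqs (Ideal.Quotient.mkₐ Λ (maximalIdeal R ^ n))
    ⟨n, fun x hx => Ideal.Quotient.eq_zero_iff_mem.2 hx⟩ hsqq
  let F : Subalgebra Λ (R × E ⧸ 𝔫 ^ n) :=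
    AlgHom.equalizer ((Ideal.Quotient.mkₐ Λ (maximalIdeal R ^ n)).comp (AlgHom.fst Λ R (E ⧸ 𝔫 ^ n)))
      (q.comp (AlgHom.snd Λ R (E ⧸ 𝔫 ^ n)))
  have memF : ∀ x : R × E ⧸ 𝔫 ^ n, x ∈ F ↔ Ideal.Quotient.mk _ x.1 = q x.2 := fun x => Iff.rfl
  let ι : E →ₐ[Λ] F := AlgHom.codRestrict (p.prod (Ideal.Quotient.mkₐ Λ (𝔫 ^ n))) F
    (fun e => (memF _).2 rfl)
  have hι1 : ∀ e, (ι e).1.1 = p e := fun e => rfl
  have hι2 : ∀ e, (ι e).1.2 = Ideal.Quotient.mk _ e := fun e => rfl
  have hιinj : Function.Injective ι := by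
    rw [injective_iff_map_eq_zero]
    intro e he
    have h1 : p e = 0 := by rw [← hι1, he]; rfl
    have h2 : Ideal.Quotient.mk (𝔫 ^ n) e = 0 := by rw [← hι2, he]; rfl
    exact hzero e h1 (Ideal.Quotient.eq_zero_iff_mem.1 h2)
  have hιsurj : Function.Surjective ι := by
    rintro ⟨⟨r, τ⟩, hx⟩
    rw [memF] at hx
    obtain ⟨e₀, rfl⟩ := Ideal.Quotient.mk_surjective τ
    change Ideal.Quotient.mk _ r = q (Ideal.Quotient.mk _ e₀) at hx
    rw [hq, eq_comm, Ideal.Quotient.eq, ← hmap𝔫] at hx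
    obtain ⟨y, hy, hpy⟩ := (Ideal.mem_map_iff_of_surjective p hp).1 hx
    refine ⟨e₀ - y, ?_⟩
    apply Subtype.ext
    apply Prod.ext
    · change p (e₀ - y) = r
      rw [map_sub, hpy]; ring
    · change Ideal.Quotient.mk _ (e₀ - y) = Ideal.Quotient.mk _ e₀
      rw [map_sub, Ideal.Quotient.eq_zero_iff_mem.2 hy, sub_zero]
  let σ : R →ₐ[Λ] F := AlgHom.codRestrict ((AlgHom.id Λ R).prod χ) F
    (fun r => (memF _).2 (AlgHom.congr_fun hχ r).symm)
  let eι : E ≃ₐ[Λ] F := AlgEquiv.ofBijective ι ⟨hιinj, hιsurj⟩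
  refine ⟨eι.symm.toAlgHom.comp σ, fun r => ?_⟩
  have h1 : ι (eι.symm (σ r)) = σ r := eι.apply_symm_apply (σ r)
  have h2 : (ι (eι.symm (σ r))).1.1 = p (eι.symm (σ r)) := hι1 _
  change p (eι.symm (σ r)) = r
  rw [← h2, h1]
  rfl

end H5.AL
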