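import Groth.Agent.Lib.Helper5.AL.AL12

universe u

namespace H5.AL

open Ideal IsLocalRing

section ba

variable {k : Type u} [Field k]
    {Λ : Type u} [CommRing Λ] [Algebra k Λ]
    {R : Type u} [CommRing R] [Algebra Λ R] [IsLocalRing R] [IsNoetherianRing R]

theorem smallLift_of_b
    (hR : ∀ r : R, ∃ c : k, r - algebraMap Λ R (algebraMap k Λ c) ∈ IsLocalRing.maximalIdeal R)
    (Hb : ∀ (B : Type u) [CommRing B] [Algebra Λ B] [IsLocalRing B] [IsArtinianRing B],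
      (∀ b : B, ∃ c : k, b - algebraMap Λ B (algebraMap k Λ c) ∈ IsLocalRing.maximalIdeal B) →
      ∀ t : B, t ∈ IsLocalRing.maximalIdeal B → (∀ b ∈ IsLocalRing.maximalIdeal B, b * t = 0) →
      ∀ φ : R →ₐ[Λ] B ⧸ Ideal.span {t},
        ∃ φ' : R →ₐ[Λ] B, (Ideal.Quotient.mkₐ Λ (Ideal.span {t})).comp φ' = φ) :
    SmallLift Λ R (maximalIdeal R) := by
  intro A' A₀ _ _ _ _ q₀ hq₀ 𝔐 h𝔐 t ht hkerq hann ψ hψs hψk
  obtain ⟨hlA, haA, hlA₀, haA₀⟩ := small_ext_artinian_local q₀.toRingHom hq₀ 𝔐 t ht hkerq hann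
    ψ.toRingHom hψs hψk
  have h𝔐eq : 𝔐 = maximalIdeal A' := IsLocalRing.eq_maximalIdeal h𝔐
  haveI : IsLocalHom ψ.toRingHom := IsLocalHom.of_surjective ψ.toRingHom hψs
  have hB : ∀ b : A', ∃ c : k, b - algebraMap Λ A' (algebraMap k Λ c) ∈ maximalIdeal A' := by
    intro b
    obtain ⟨a, ha⟩ := hψs (q₀ b)
    obtain ⟨c, hc⟩ := hR a
    refine ⟨c, ?_⟩
    have h1 : q₀ (b - algebraMap Λ A' (algebraMap k Λ c)) =
        ψ (a - algebraMap Λ R (algebraMap k Λ c)) := by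
      rw [map_sub, map_sub, AlgHom.commutes, AlgHom.commutes, ha]
    have h2 : ψ (a - algebraMap Λ R (algebraMap k Λ c)) ∈ maximalIdeal A₀ :=
      map_nonunit ψ.toRingHom _ hc
    rw [← h1] at h2
    intro hu
    exact h2 (hu.map q₀)
  let e : (A' ⧸ Ideal.span {t}) ≃ₐ[Λ] A₀ :=
    (Ideal.quotientEquivAlgOfEq Λ hkerq.symm).trans (Ideal.quotientKerAlgEquivOfSurjective hq₀)
  have he : ∀ a, e (Ideal.Quotient.mk _ a) = q₀ a := fun a => rfl
  obtain ⟨χ, hχ⟩ := Hb A' hB t (h𝔐eq ▸ ht) (fun b hb => hann b (h𝔐eq ▸ hb))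
    (e.symm.toAlgHom.comp ψ)
  refine ⟨χ, ?_⟩
  ext s
  have h1 : Ideal.Quotient.mk _ (χ s) = e.symm (ψ s) := AlgHom.congr_fun hχ s
  change q₀ (χ s) = ψ s
  rw [← he, h1]
  exact e.apply_symm_apply (ψ s)

theorem isTrivial_of_smallLift (hSL : SmallLift Λ R (maximalIdeal R))
    (X : Exal.Ext Λ R (IsLocalRing.ResidueField R)) : X.IsTrivial := by
  have hX := X.isExtension
  have hsmul : ∀ (r : R) (z : ResidueField R), r • z = residue R r * z := fun r z => by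
    rw [Algebra.smul_def]; rfl
  apply exists_section_of_smallLift hSL X.proj hX.proj_surjective (X.incl 1)
  · ext x
    rw [RingHom.mem_ker, Ideal.mem_span_singleton']
    constructor
    · intro hx
      obtain ⟨z, rfl⟩ := (hX.exact x).1 hx
      obtain ⟨r, rfl⟩ := IsLocalRing.residue_surjective z
      obtain ⟨e, rfl⟩ := hX.proj_surjective r
      refine ⟨e, ?_⟩
      rw [hX.mul_incl, hsmul, mul_one]
    · rintro ⟨a, rfl⟩
      rw [hX.mul_incl]
      exact (hX.exact _).2 ⟨_, rfl⟩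
  · intro m hm
    rw [hX.mul_incl, hsmul, (IsLocalRing.residue_eq_zero_iff _).2 hm, zero_mul, map_zero]

end ba

end H5.AL
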