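import Groth.Agent.Lib.Helper5.AL.AL12

universe u

namespace H5.AL

open Ideal IsLocalRing

section ab

variable {k : Type u} [Field k]
    {Λ : Type u} [CommRing Λ] [Algebra k Λ]
    {R : Type u} [CommRing R] [Algebra Λ R] [IsLocalRing R]

theorem lift_of_trivial
    (hR : ∀ r : R, ∃ c : k, r - algebraMap Λ R (algebraMap k Λ c) ∈ IsLocalRing.maximalIdeal R)
    (Ha : ∀ X : Exal.Ext Λ R (IsLocalRing.ResidueField R), X.IsTrivial)
    (B : Type u) [CommRing B] [Algebra Λ B] [IsLocalRing B]
    (hB : ∀ b : B, ∃ c : k, b - algebraMap Λ B (algebraMap k Λ c) ∈ IsLocalRing.maximalIdeal B)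
    (t : B) (ht : t ∈ IsLocalRing.maximalIdeal B) (hann : ∀ b ∈ IsLocalRing.maximalIdeal B, b * t = 0)
    (φ : R →ₐ[Λ] B ⧸ Ideal.span {t}) :
    ∃ φ' : R →ₐ[Λ] B, (Ideal.Quotient.mkₐ Λ (Ideal.span {t})).comp φ' = φ := by
  by_cases ht0 : t = 0
  · have hbij : Function.Bijective (Ideal.Quotient.mkₐ Λ (Ideal.span {t})) := by
      refine ⟨?_, Ideal.Quotient.mk_surjective⟩
      rw [injective_iff_map_eq_zero]
      intro a ha
      have : a ∈ Ideal.span {t} := Ideal.Quotient.eq_zero_iff_mem.1 ha
      rw [ht0] at this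
      simpa using this
    let e : B ≃ₐ[Λ] B ⧸ Ideal.span {t} := AlgEquiv.ofBijective _ hbij
    refine ⟨e.symm.toAlgHom.comp φ, ?_⟩
    ext r
    exact e.apply_symm_apply (φ r)
  -- notation
  let algR : k →+* R := (algebraMap Λ R).comp (algebraMap k Λ)
  let algB : k →+* B := (algebraMap Λ B).comp (algebraMap k Λ)
  let κ := ResidueField R
  let ι : k →+* κ := (residue R).comp algR
  have hιbij : Function.Bijective ι := by
    refine ⟨ι.injective, ?_⟩
    intro z
    obtain ⟨r, rfl⟩ := IsLocalRing.residue_surjective z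
    obtain ⟨c, hc⟩ := hR r
    refine ⟨c, ?_⟩
    symm
    rw [← sub_eq_zero]
    change residue R r - residue R (algR c) = 0
    rw [← map_sub, IsLocalRing.residue_eq_zero_iff]
    exact hc
  let ε : k ≃+* κ := RingEquiv.ofBijective ι hιbij
  have hε : ∀ r : R, r - algR (ε.symm (residue R r)) ∈ maximalIdeal R := by
    intro r
    rw [← IsLocalRing.residue_eq_zero_iff, map_sub, sub_eq_zero]
    exact (ε.apply_symm_apply (residue R r)).symm
  -- B/t local
  have hspan_le : Ideal.span {t} ≤ maximalIdeal B := (Ideal.span_singleton_le_iff_mem _).2 ht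
  haveI : Nontrivial (B ⧸ Ideal.span {t}) :=
    Ideal.Quotient.nontrivial_iff.2 (fun h => (maximalIdeal.isMaximal B).ne_top
      (top_le_iff.1 (h ▸ hspan_le)))
  haveI : IsLocalRing (B ⧸ Ideal.span {t}) :=
    IsLocalRing.of_surjective' (Ideal.Quotient.mk _) Ideal.Quotient.mk_surjective
  haveI : IsLocalHom (Ideal.Quotient.mk (Ideal.span {t})) :=
    IsLocalHom.of_surjective _ Ideal.Quotient.mk_surjective
  -- φ local
  have hφloc : ∀ r ∈ maximalIdeal R, φ r ∈ maximalIdeal (B ⧸ Ideal.span {t}) := by
    intro r hr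
    let ρ : R →+* ResidueField (B ⧸ Ideal.span {t}) := (residue _).comp φ.toRingHom
    have hρs : Function.Surjective ρ := by
      intro y
      obtain ⟨y', rfl⟩ := IsLocalRing.residue_surjective y
      obtain ⟨b, rfl⟩ := Ideal.Quotient.mk_surjective y'
      obtain ⟨c, hc⟩ := hB b
      refine ⟨algR c, ?_⟩
      change residue _ (φ (algebraMap Λ R (algebraMap k Λ c))) = _
      rw [AlgHom.commutes]
      symm
      rw [← sub_eq_zero, ← map_sub, IsLocalRing.residue_eq_zero_iff]
      have : Ideal.Quotient.mk (Ideal.span {t}) b - algebraMap Λ (B ⧸ Ideal.span {t}) (algebraMap k Λ c)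
          = Ideal.Quotient.mk (Ideal.span {t}) (b - algebraMap Λ B (algebraMap k Λ c)) := by
        rw [map_sub]; rfl
      rw [this]
      exact map_nonunit (Ideal.Quotient.mk (Ideal.span {t})) _ hc
    have hmax : (RingHom.ker ρ).IsMaximal := RingHom.ker_isMaximal_of_surjective ρ hρs
    have hker : RingHom.ker ρ = maximalIdeal R := IsLocalRing.eq_maximalIdeal hmax
    rw [← hker, RingHom.mem_ker] at hr
    exact (IsLocalRing.residue_eq_zero_iff _).1 hr
  have hmk_loc : ∀ b : B, Ideal.Quotient.mk (Ideal.span {t}) b ∈ maximalIdeal (B ⧸ Ideal.span {t}) →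
      b ∈ maximalIdeal B := by
    intro b hb hu
    exact hb (hu.map _)
  -- the extension
  let E : Subalgebra Λ (R × B) :=
    AlgHom.equalizer (φ.comp (AlgHom.fst Λ R B))
      ((Ideal.Quotient.mkₐ Λ (Ideal.span {t})).comp (AlgHom.snd Λ R B))
  have memE : ∀ x : R × B, x ∈ E ↔ φ x.1 = Ideal.Quotient.mk _ x.2 := fun x => Iff.rfl
  let p : E →ₐ[Λ] R := (AlgHom.fst Λ R B).comp E.val
  have hp : ∀ x : E, p x = x.1.1 := fun x => rfl
  let i : κ →+ E :=
    { toFun := fun z => ⟨(0, algB (ε.symm z) * t), (memE _).2 (by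
        change φ 0 = Ideal.Quotient.mk _ (algB (ε.symm z) * t)
        rw [map_zero, eq_comm, Ideal.Quotient.eq_zero_iff_mem]
        exact Ideal.mul_mem_left _ _ (Ideal.subset_span rfl))⟩
      map_zero' := by
        apply Subtype.ext
        apply Prod.ext
        · rfl
        · change algB (ε.symm 0) * t = 0
          rw [map_zero, map_zero, zero_mul]
      map_add' := fun z w => by
        apply Subtype.ext
        apply Prod.ext
        · change (0 : R) = 0 + 0
          rw [add_zero]
        · change algB (ε.symm (z + w)) * t = algB (ε.symm z) * t + algB (ε.symm w) * t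
          rw [map_add, map_add, add_mul] }
  have hi1 : ∀ z, (i z).1.1 = 0 := fun z => rfl
  have hi2 : ∀ z, (i z).1.2 = algB (ε.symm z) * t := fun z => rfl
  have hsmul : ∀ (r : R) (z : κ), r • z = residue R r * z := fun r z => by
    rw [Algebra.smul_def]; rfl
  have hext : Exal.IsExtension p i := by
    refine ⟨?_, ?_, ?_, ?_⟩
    · intro r
      obtain ⟨b, hb⟩ := Ideal.Quotient.mk_surjective (φ r)
      exact ⟨⟨(r, b), (memE _).2 hb.symm⟩, rfl⟩
    · rw [injective_iff_map_eq_zero]
      intro z hz
      have h2 : algB (ε.symm z) * t = 0 := by rw [← hi2, hz]; rfl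
      by_contra hz0
      have hc0 : ε.symm z ≠ 0 := fun h => hz0 (by simpa using h)
      have hu : IsUnit (algB (ε.symm z)) := (IsUnit.mk0 _ hc0).map algB
      exact ht0 ((hu.mul_right_eq_zero).1 h2)
    · intro x
      constructor
      · intro hx
        rw [hp] at hx
        have hxE := (memE _).1 x.2
        rw [hx, map_zero, eq_comm, Ideal.Quotient.eq_zero_iff_mem, Ideal.mem_span_singleton'] at hxE
        obtain ⟨a, ha⟩ := hxE
        obtain ⟨c, hc⟩ := hB a
        refine ⟨ε c, ?_⟩
        apply Subtype.ext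
        apply Prod.ext
        · rw [hi1, hx]
        · rw [hi2, ε.symm_apply_apply, ← ha]
          have := hann _ hc
          rw [sub_mul, sub_eq_zero] at this
          exact this.symm
      · rintro ⟨z, rfl⟩
        rfl
    · intro x z
      apply Subtype.ext
      apply Prod.ext
      · change x.1.1 * (i z).1.1 = (i (p x • z)).1.1
        rw [hi1, hi1, mul_zero]
      · change x.1.2 * (i z).1.2 = (i (p x • z)).1.2
        rw [hi2, hi2, hsmul, map_mul, map_mul, hp]
        have hxE := (memE _).1 x.2
        set r := x.1.1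
        set b := x.1.2
        have h1 := hφloc _ (hε r)
        rw [map_sub] at h1
        have h2 : φ (algR (ε.symm (residue R r))) =
            Ideal.Quotient.mk _ (algB (ε.symm (residue R r))) := by
          change φ (algebraMap Λ R (algebraMap k Λ _)) = _
          rw [AlgHom.commutes]; rfl
        rw [h2, hxE, ← map_sub] at h1
        have h3 := hann _ (hmk_loc _ h1)
        rw [sub_mul, sub_eq_zero] at h3
        linear_combination (algB (ε.symm z)) * h3
  let X : Exal.Ext Λ R κ := { E := E, proj := p, incl := i, isExtension := hext }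
  obtain ⟨s, hs⟩ := Ha X
  refine ⟨((AlgHom.snd Λ R B).comp E.val).comp s, ?_⟩
  ext r
  have h1 : (s r).1.1 = r := hs r
  have h2 := (memE _).1 (s r).2
  rw [h1] at h2
  exact h2.symm

end ab

end H5.AL
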