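import Groth.Agent.Lib.Helper5.AL.AL1

universe u

namespace H5.AL

open Ideal

/-- The small-extension lifting hypothesis. -/
def SmallLift (R S : Type u) [CommRing R] [CommRing S] [Algebra R S] (𝔪 : Ideal S) : Prop :=
  ∀ (A A₀ : Type u) [CommRing A] [CommRing A₀] [Algebra R A] [Algebra R A₀] (q : A →ₐ[R] A₀),
    Function.Surjective q → ∀ (𝔐 : Ideal A) [𝔐.IsMaximal] (t : A), t ∈ 𝔐 →
    RingHom.ker q = Ideal.span {t} → (∀ m ∈ 𝔐, m * t = 0) →
    ∀ ψ : S →ₐ[R] A₀, Function.Surjective ψ → (∃ k, ∀ x ∈ 𝔪 ^ k, ψ x = 0) →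
    ∃ χ : S →ₐ[R] A, q.comp χ = ψ

variable {R S : Type u} [CommRing R] [CommRing S] [Algebra R S] {𝔪 : Ideal S}

theorem exists_lift_stageI (h : SmallLift R S 𝔪) {E Q : Type u} [CommRing E] [Algebra R E]
    [CommRing Q] [Algebra R Q] (p : S →ₐ[R] Q) (hp : Function.Surjective p)
    (hpk : ∃ k, ∀ x ∈ 𝔪 ^ k, p x = 0)
    (π : E →ₐ[R] Q) (hπ : Function.Surjective π)
    (𝔐 : Ideal E) [h𝔐 : 𝔐.IsMaximal] (hle : RingHom.ker π ≤ 𝔐)
    (hann : ∀ m ∈ 𝔐, ∀ v ∈ RingHom.ker π, m * v = 0) :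
    ∃ χ : S →ₐ[R] E, π.comp χ = p := by
  apply exists_lift_of_forall_hyperplane p π hπ 𝔐 hle hann
  rintro W hW ⟨t, ht, hker⟩
  have hW' : ∀ a ∈ W, π a = 0 := fun a ha => hW ha
  let qA : E ⧸ W →ₐ[R] Q := Ideal.Quotient.liftₐ W π hW'
  have hqA : ∀ e, qA (Ideal.Quotient.mk W e) = π e := fun e => rfl
  have hqAs : Function.Surjective qA := by
    intro x
    obtain ⟨e, rfl⟩ := hπ x
    exact ⟨Ideal.Quotient.mk W e, rfl⟩
  have hmax : (𝔐.map (Ideal.Quotient.mk W)).IsMaximal := by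
    rcases Ideal.map_eq_top_or_isMaximal_of_surjective (Ideal.Quotient.mk W)
      Ideal.Quotient.mk_surjective h𝔐 with h1 | h1
    · exfalso
      have h2 := congrArg (Ideal.comap (Ideal.Quotient.mk W)) h1
      rw [Ideal.comap_map_of_surjective _ Ideal.Quotient.mk_surjective, Ideal.comap_top,
        ← RingHom.ker_eq_comap_bot, Ideal.mk_ker, sup_eq_left.mpr (hW.trans hle)] at h2
      exact h𝔐.ne_top h2
    · exact h1
  have hkerA : RingHom.ker qA = Ideal.span {Ideal.Quotient.mk W t} := by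
    apply le_antisymm
    · intro x hx
      obtain ⟨e, rfl⟩ := Ideal.Quotient.mk_surjective x
      rw [RingHom.mem_ker] at hx
      have he : e ∈ W ⊔ Ideal.span {t} := hker (by rw [RingHom.mem_ker]; exact hx)
      obtain ⟨w, hw, y, hy, rfl⟩ := Submodule.mem_sup.1 he
      obtain ⟨a, rfl⟩ := Ideal.mem_span_singleton'.1 hy
      rw [map_add, Ideal.Quotient.eq_zero_iff_mem.2 hw, zero_add, map_mul]
      exact Ideal.mul_mem_left _ _ (Ideal.subset_span rfl)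
    · rw [Ideal.span_le, Set.singleton_subset_iff]
      change qA _ = 0
      rw [hqA]
      exact ht
  obtain ⟨χ, hχ⟩ := h (E ⧸ W) Q qA hqAs (𝔐.map (Ideal.Quotient.mk W)) (Ideal.Quotient.mk W t)
    (Ideal.mem_map_of_mem _ (hle ht)) hkerA (by
      intro m hm
      obtain ⟨m', hm', rfl⟩ := (Ideal.mem_map_iff_of_surjective _ Ideal.Quotient.mk_surjective).1 hm
      rw [← map_mul, hann m' hm' t ht, map_zero]) p hp hpk
  refine ⟨χ, fun s => ?_⟩
  obtain ⟨e, he⟩ := Ideal.Quotient.mk_surjective (χ s)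
  refine ⟨e, ?_, he⟩
  rw [← hqA, he]
  exact AlgHom.congr_fun hχ s


theorem exists_lift_stageII (h : SmallLift R S 𝔪) [h𝔪 : 𝔪.IsMaximal] {T T₀ : Type u}
    [CommRing T] [CommRing T₀] [Algebra R T] [Algebra R T₀]
    (q : T →ₐ[R] T₀) (hq : Function.Surjective q) (ψ : S →ₐ[R] T₀) (k : ℕ) (hk : k ≠ 0)
    (hψ : ∀ x ∈ 𝔪 ^ k, ψ x = 0)
    (hMN : ∀ t n, q t ∈ Ideal.map ψ 𝔪 → q n = 0 → t * n = 0) :
    ∃ χ : S →ₐ[R] T, q.comp χ = ψ := by
  let ψb : S ⧸ 𝔪 ^ k →ₐ[R] T₀ := Ideal.Quotient.liftₐ (𝔪 ^ k) ψ hψ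
  have hψb : ∀ s, ψb (Ideal.Quotient.mk _ s) = ψ s := fun s => rfl
  let E : Subalgebra R (T × S ⧸ 𝔪 ^ k) :=
    AlgHom.equalizer (q.comp (AlgHom.fst R T (S ⧸ 𝔪 ^ k))) (ψb.comp (AlgHom.snd R T (S ⧸ 𝔪 ^ k)))
  have memE : ∀ x : T × S ⧸ 𝔪 ^ k, x ∈ E ↔ q x.1 = ψb x.2 := fun x => Iff.rfl
  let π : E →ₐ[R] S ⧸ 𝔪 ^ k := (AlgHom.snd R T (S ⧸ 𝔪 ^ k)).comp E.val
  have hπ : Function.Surjective π := by
    intro s
    obtain ⟨t, ht⟩ := hq (ψb s)
    exact ⟨⟨(t, s), (memE _).2 ht⟩, rfl⟩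
  have hle𝔪 : 𝔪 ^ k ≤ 𝔪 := Ideal.pow_le_self hk
  have hmax1 : (𝔪.map (Ideal.Quotient.mk (𝔪 ^ k))).IsMaximal := by
    rcases Ideal.map_eq_top_or_isMaximal_of_surjective (Ideal.Quotient.mk (𝔪 ^ k))
      Ideal.Quotient.mk_surjective h𝔪 with h1 | h1
    · exfalso
      have h2 := congrArg (Ideal.comap (Ideal.Quotient.mk (𝔪 ^ k))) h1
      rw [Ideal.comap_map_of_surjective _ Ideal.Quotient.mk_surjective, Ideal.comap_top,
        ← RingHom.ker_eq_comap_bot, Ideal.mk_ker, sup_eq_left.mpr hle𝔪] at h2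
      exact h𝔪.ne_top h2
    · exact h1
  let 𝔐 : Ideal E := Ideal.comap π (𝔪.map (Ideal.Quotient.mk (𝔪 ^ k)))
  haveI h𝔐 : 𝔐.IsMaximal := Ideal.comap_isMaximal_of_surjective π hπ
  have hle : RingHom.ker π ≤ 𝔐 := by
    intro x hx
    rw [RingHom.mem_ker] at hx
    change π x ∈ 𝔪.map (Ideal.Quotient.mk (𝔪 ^ k))
    rw [hx]
    exact zero_mem _
  have hann : ∀ m ∈ 𝔐, ∀ v ∈ RingHom.ker π, m * v = 0 := by
    intro m hm v hv
    rw [RingHom.mem_ker] at hv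
    have hm' : π m ∈ 𝔪.map (Ideal.Quotient.mk (𝔪 ^ k)) := hm
    obtain ⟨s, hs, hs'⟩ := (Ideal.mem_map_iff_of_surjective _ Ideal.Quotient.mk_surjective).1 hm'
    have h1 : q m.1.1 ∈ Ideal.map ψ 𝔪 := by
      rw [(memE _).1 m.2]
      have : m.1.2 = Ideal.Quotient.mk _ s := hs'.symm
      rw [this, hψb]
      exact Ideal.mem_map_of_mem _ hs
    have hv2 : v.1.2 = 0 := hv
    have h2 : q v.1.1 = 0 := by
      rw [(memE _).1 v.2, hv2, map_zero]
    apply Subtype.ext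
    apply Prod.ext
    · exact hMN _ _ h1 h2
    · change m.1.2 * v.1.2 = 0
      rw [hv2, mul_zero]
  obtain ⟨χE, hχE⟩ := exists_lift_stageI h (Ideal.Quotient.mkₐ R (𝔪 ^ k))
    Ideal.Quotient.mk_surjective ⟨k, fun x hx => Ideal.Quotient.eq_zero_iff_mem.2 hx⟩ π hπ 𝔐 hle hann
  refine ⟨(AlgHom.fst R T (S ⧸ 𝔪 ^ k)).comp (E.val.comp χE), ?_⟩
  ext s
  have h1 : q (χE s).1.1 = ψb (χE s).1.2 := (memE _).1 (χE s).2
  have h2 : (χE s).1.2 = Ideal.Quotient.mk _ s := AlgHom.congr_fun hχE s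
  change q (χE s).1.1 = ψ s
  rw [h1, h2, hψb]


theorem exists_lift_stageIII (h : SmallLift R S 𝔪) [h𝔪 : 𝔪.IsMaximal] (i : ℕ) :
    ∀ {T T₀ : Type u} [CommRing T] [CommRing T₀] [Algebra R T] [Algebra R T₀]
      (q : T →ₐ[R] T₀) (_ : Function.Surjective q) (ψ : S →ₐ[R] T₀)
      (_ : ∃ k, ∀ x ∈ 𝔪 ^ k, ψ x = 0)
      (_ : ∀ x y, q x = 0 → q y = 0 → x * y = 0)
      (_ : (Ideal.comap q (Ideal.map ψ 𝔪)) ^ i * RingHom.ker q = ⊥),
      ∃ χ : S →ₐ[R] T, q.comp χ = ψ := by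
  induction i with
  | zero =>
    intro T T₀ _ _ _ _ q hq ψ hψ hsq hMN
    rw [pow_zero, one_mul] at hMN
    have hinj : Function.Injective q := (RingHom.injective_iff_ker_eq_bot (q : T →+* T₀)).2 hMN
    let e : T ≃ₐ[R] T₀ := AlgEquiv.ofBijective q ⟨hinj, hq⟩
    refine ⟨e.symm.toAlgHom.comp ψ, ?_⟩
    ext s
    exact e.apply_symm_apply (ψ s)
  | succ i ih =>
    intro T T₀ _ _ _ _ q hq ψ hψ hsq hMN
    set M : Ideal T := Ideal.comap q (Ideal.map ψ 𝔪) with hM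
    set N : Ideal T := RingHom.ker q with hN
    set N₁ : Ideal T := M ^ i * N with hN₁
    have hN₁N : N₁ ≤ N := Ideal.mul_le_right
    have hN₁' : ∀ a ∈ N₁, q a = 0 := fun a ha => hN₁N ha
    let q₁ : T ⧸ N₁ →ₐ[R] T₀ := Ideal.Quotient.liftₐ N₁ q hN₁'
    have hq₁ : ∀ t, q₁ (Ideal.Quotient.mk N₁ t) = q t := fun t => rfl
    have hq₁s : Function.Surjective q₁ := by
      intro x
      obtain ⟨t, rfl⟩ := hq x
      exact ⟨Ideal.Quotient.mk N₁ t, rfl⟩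
    have hsq₁ : ∀ x y, q₁ x = 0 → q₁ y = 0 → x * y = 0 := by
      intro x y hx hy
      obtain ⟨x, rfl⟩ := Ideal.Quotient.mk_surjective x
      obtain ⟨y, rfl⟩ := Ideal.Quotient.mk_surjective y
      rw [hq₁] at hx hy
      rw [← map_mul, hsq x y hx hy, map_zero]
    have hker₁ : RingHom.ker q₁ = N.map (Ideal.Quotient.mk N₁) := by
      apply le_antisymm
      · intro x hx
        obtain ⟨x, rfl⟩ := Ideal.Quotient.mk_surjective x
        rw [RingHom.mem_ker, hq₁] at hx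
        exact Ideal.mem_map_of_mem _ hx
      · rw [Ideal.map_le_iff_le_comap]
        intro x hx
        change q₁ (Ideal.Quotient.mk N₁ x) = 0
        rw [hq₁]
        exact hx
    have hcomap₁ : Ideal.comap q₁ (Ideal.map ψ 𝔪) = M.map (Ideal.Quotient.mk N₁) := by
      apply le_antisymm
      · intro x hx
        obtain ⟨x, rfl⟩ := Ideal.Quotient.mk_surjective x
        apply Ideal.mem_map_of_mem
        rw [hM, Ideal.mem_comap, ← hq₁]
        exact hx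
      · rw [Ideal.map_le_iff_le_comap]
        intro x hx
        exact hx
    have hMN₁ : (Ideal.comap q₁ (Ideal.map ψ 𝔪)) ^ i * RingHom.ker q₁ = ⊥ := by
      rw [hker₁, hcomap₁, ← Ideal.map_pow, ← Ideal.map_mul, ← hN₁, Ideal.map_quotient_self]
    obtain ⟨χ₁, hχ₁⟩ := ih q₁ hq₁s ψ hψ hsq₁ hMN₁
    obtain ⟨k, hk⟩ := hψ
    -- χ₁ kills 𝔪^(2(k+1))
    have hχ₁k : ∀ x ∈ 𝔪 ^ ((k + 1) + (k + 1)), χ₁ x = 0 := by
      have hk1 : ∀ x ∈ 𝔪 ^ (k + 1), q₁ (χ₁ x) = 0 := by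
        intro x hx
        have : q₁ (χ₁ x) = ψ x := AlgHom.congr_fun hχ₁ x
        rw [this]
        exact hk x (Ideal.pow_le_pow_right (Nat.le_succ k) hx)
      have : 𝔪 ^ ((k + 1) + (k + 1)) ≤ Ideal.comap χ₁ ⊥ := by
        rw [pow_add, Ideal.mul_le]
        intro a ha b hb
        change χ₁ (a * b) ∈ (⊥ : Ideal _)
        rw [map_mul, hsq₁ _ _ (hk1 a ha) (hk1 b hb)]
        exact Ideal.zero_mem _
      intro x hx
      exact this hx
    obtain ⟨χ, hχ⟩ := exists_lift_stageII h (Ideal.Quotient.mkₐ R N₁) Ideal.Quotient.mk_surjective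
      χ₁ ((k + 1) + (k + 1)) (by omega) hχ₁k (by
        intro t n ht hn
        have hn' : n ∈ N₁ := Ideal.Quotient.eq_zero_iff_mem.1 hn
        have ht' : t ∈ M := by
          rw [hM, Ideal.mem_comap, ← hq₁]
          have : Ideal.map χ₁ 𝔪 ≤ Ideal.comap q₁ (Ideal.map ψ 𝔪) := by
            rw [Ideal.map_le_iff_le_comap]
            intro s hs
            rw [Ideal.mem_comap, Ideal.mem_comap]
            have : q₁ (χ₁ s) = ψ s := AlgHom.congr_fun hχ₁ s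
            rw [this]
            exact Ideal.mem_map_of_mem _ hs
          exact this ht
        have : t * n ∈ M ^ (i + 1) * N := by
          rw [pow_succ', mul_assoc]
          exact Ideal.mul_mem_mul ht' hn'
        rw [hMN] at this
        exact this)
    refine ⟨χ, ?_⟩
    ext s
    have h1 : Ideal.Quotient.mk N₁ (χ s) = χ₁ s := AlgHom.congr_fun hχ s
    have h2 : q₁ (χ₁ s) = ψ s := AlgHom.congr_fun hχ₁ s
    change q (χ s) = ψ s
    rw [← hq₁, h1, h2]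

/-- Lifting along arbitrary square-zero surjections from the small-extension hypothesis. -/
theorem exists_lift_of_smallLift (h : SmallLift R S 𝔪) [h𝔪 : 𝔪.IsMaximal]
    {T T₀ : Type u} [CommRing T] [CommRing T₀] [Algebra R T] [Algebra R T₀]
    (q : T →ₐ[R] T₀) (hq : Function.Surjective q) (ψ : S →ₐ[R] T₀)
    (hψ : ∃ k, ∀ x ∈ 𝔪 ^ k, ψ x = 0)
    (hsq : ∀ x y, q x = 0 → q y = 0 → x * y = 0) :
    ∃ χ : S →ₐ[R] T, q.comp χ = ψ := by
  obtain ⟨k, hk⟩ := hψ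
  apply exists_lift_stageIII h k q hq ψ ⟨k, hk⟩ hsq
  have h1 : (Ideal.comap q (Ideal.map ψ 𝔪)) ^ k ≤ RingHom.ker q := by
    refine (Ideal.le_comap_pow _ k).trans ?_
    rw [← Ideal.map_pow]
    have : Ideal.map ψ (𝔪 ^ k) = ⊥ := by
      rw [eq_bot_iff, Ideal.map_le_iff_le_comap]
      intro x hx
      exact hk x hx
    rw [this]
    exact le_of_eq (RingHom.ker_eq_comap_bot _).symm
  rw [eq_bot_iff]
  refine (Ideal.mul_mono_left h1).trans ?_
  rw [Ideal.mul_le]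
  intro a ha b hb
  rw [hsq a b ha hb]
  exact Ideal.zero_mem _

end H5.AL
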