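import Groth.Agent.Lib.Helper5.AL.AL2
import Groth.Prelude.Def_CAlgX

universe u

namespace H5.AL

open Ideal IsLocalRing

theorem isAdicFormallySmooth_of_smallLift {R S : Type u} [CommRing R] [CommRing S] [Algebra R S]
    {𝔪 : Ideal S} [𝔪.IsMaximal] (h : SmallLift R S 𝔪) : CAlgX.IsAdicFormallySmooth R S 𝔪 := by
  intro A _ _ J hJ ψ hψ
  refine exists_lift_of_smallLift h (Ideal.Quotient.mkₐ R J) Ideal.Quotient.mk_surjective ψ hψ ?_
  intro x y hx hy
  have hx' : x ∈ J := Ideal.Quotient.eq_zero_iff_mem.1 hx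
  have hy' : y ∈ J := Ideal.Quotient.eq_zero_iff_mem.1 hy
  have : x * y ∈ J ^ 2 := by
    rw [pow_two]
    exact Ideal.mul_mem_mul hx' hy'
  rw [hJ] at this
  exact this

/-- a surjection with square-zero kernel is a local homomorphism. -/
theorem isLocalHom_of_sq_zero {A A₀ : Type u} [CommRing A] [CommRing A₀] (q : A →+* A₀)
    (hq : Function.Surjective q)
    (hsq : ∀ x y, q x = 0 → q y = 0 → x * y = 0) : IsLocalHom q := by
  constructor
  intro a ha
  obtain ⟨b', hb'⟩ := ha.exists_right_inv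
  obtain ⟨b, rfl⟩ := hq b'
  -- q (a * b - 1) = 0
  have hn : q (a * b - 1) = 0 := by rw [map_sub, map_mul, hb', map_one, sub_self]
  have hnil : IsNilpotent (a * b - 1) := ⟨2, by rw [pow_two]; exact hsq _ _ hn hn⟩
  have hu : IsUnit (a * b) := by
    have := hnil.isUnit_add_one
    rwa [sub_add_cancel] at this
  exact isUnit_of_mul_isUnit_left hu

theorem smallLift_of_artinian {R S : Type u} [CommRing R] [CommRing S]
    [IsLocalRing R] [IsLocalRing S] [IsNoetherianRing S] [Algebra R S] [IsLocalHom (algebraMap R S)]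
    (H : ∀ (A : Type u) [CommRing A] [IsLocalRing A] [IsArtinianRing A] [Algebra R A]
        [IsLocalHom (algebraMap R A)] (J : Ideal A), J ^ 2 = ⊥ → Module.length A J = 1 →
        ∀ [IsLocalRing (A ⧸ J)] (ψ : S →ₐ[R] A ⧸ J) [IsLocalHom ψ.toRingHom],
          Function.Bijective (ResidueField.map ψ.toRingHom) →
          ∃ χ : S →ₐ[R] A, (Ideal.Quotient.mkₐ R J).comp χ = ψ) :
    SmallLift R S (maximalIdeal S) := by
  intro A A₀ _ _ _ _ q hq 𝔐 h𝔐 t ht hker hann ψ hψs hψk
  have hmemker : ∀ a, q a = 0 ↔ a ∈ Ideal.span {t} := fun a => by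
    rw [← hker, RingHom.mem_ker]
  by_cases ht0 : t = 0
  · have hinj : Function.Injective q := by
      rw [injective_iff_map_eq_zero]
      intro a ha
      rw [hmemker, ht0] at ha
      simpa using ha
    let e : A ≃ₐ[R] A₀ := AlgEquiv.ofBijective q ⟨hinj, hq⟩
    refine ⟨e.symm.toAlgHom.comp ψ, ?_⟩
    ext s
    exact e.apply_symm_apply (ψ s)
  -- t ≠ 0
  have htt : t * t = 0 := hann t ht
  have hsq : ∀ x y, q x = 0 → q y = 0 → x * y = 0 := by
    intro x y hx hy
    rw [hmemker] at hx hy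
    obtain ⟨a, rfl⟩ := Ideal.mem_span_singleton'.1 hx
    obtain ⟨b, rfl⟩ := Ideal.mem_span_singleton'.1 hy
    calc a * t * (b * t) = a * b * (t * t) := by ring
      _ = 0 := by rw [htt, mul_zero]
  have hspanle : Ideal.span {t} ≤ 𝔐 := (Ideal.span_singleton_le_iff_mem _).2 ht
  haveI hnt : Nontrivial A₀ := by
    refine ⟨⟨0, 1, fun h01 => ?_⟩⟩
    have : q 1 = 0 := by rw [map_one]; exact h01.symm
    rw [hmemker] at this
    exact h𝔐.ne_top ((Ideal.eq_top_iff_one _).2 (hspanle this))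
  haveI hlocA₀ : IsLocalRing A₀ := IsLocalRing.of_surjective' ψ.toRingHom hψs
  haveI hlocq : IsLocalHom q.toRingHom := isLocalHom_of_sq_zero q.toRingHom hq hsq
  haveI hlocA : IsLocalRing A := RingHom.domain_isLocalRing q.toRingHom
  have h𝔐eq : 𝔐 = maximalIdeal A := (IsLocalRing.eq_maximalIdeal h𝔐)
  -- A₀ is Artinian
  obtain ⟨k, hk⟩ := hψk
  have hk0 : k ≠ 0 := by
    rintro rfl
    have : ψ 1 = 0 := hk 1 (by simp)
    rw [map_one] at this
    exact one_ne_zero this
  haveI hartS : IsArtinianRing (S ⧸ maximalIdeal S ^ k) := by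
    have hmin : maximalIdeal S ∈ (maximalIdeal S ^ k).minimalPrimes := by
      refine ⟨⟨inferInstance, Ideal.pow_le_self hk0⟩, fun q ⟨hq1, hq2⟩ _ => ?_⟩
      exact hq1.le_of_pow_le hq2
    exact IsLocalRing.quotient_artinian_of_mem_minimalPrimes_of_isLocalRing _ hmin
  haveI hartA₀ : IsArtinianRing A₀ := by
    let ψb : S ⧸ maximalIdeal S ^ k →+* A₀ := Ideal.Quotient.lift _ ψ.toRingHom hk
    have : Function.Surjective ψb := by
      intro x
      obtain ⟨s, rfl⟩ := hψs x
      exact ⟨Ideal.Quotient.mk _ s, rfl⟩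
    exact this.isArtinianRing
  -- A is Artinian
  haveI hartA : IsArtinianRing A := by
    letI : Algebra A A₀ := q.toRingHom.toAlgebra
    haveI : IsArtinian A A₀ := isArtinian_of_surjective_algebraMap (S := A) (R := A₀) (M := A₀) hq
    letI : Field (A ⧸ 𝔐) := Ideal.Quotient.field 𝔐
    haveI : IsArtinian A (A ⧸ 𝔐) :=
      isArtinian_of_surjective_algebraMap (S := A) (R := A ⧸ 𝔐) (M := A ⧸ 𝔐)
        Ideal.Quotient.mk_surjective
    -- the kernel is a quotient of A ⧸ 𝔐
    let g : (A ⧸ 𝔐) →ₗ[A] A := Submodule.liftQ 𝔐 (LinearMap.toSpanSingleton A A t) (by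
      intro m hm
      rw [LinearMap.mem_ker, LinearMap.toSpanSingleton_apply, smul_eq_mul]
      exact hann m hm)
    have hg : LinearMap.range g = LinearMap.ker (Algebra.linearMap A A₀) := by
      ext x
      rw [LinearMap.mem_ker, Algebra.linearMap_apply]
      change _ ↔ q x = 0
      rw [hmemker, Ideal.mem_span_singleton']
      constructor
      · rintro ⟨y, rfl⟩
        obtain ⟨a, rfl⟩ := Ideal.Quotient.mk_surjective y
        exact ⟨a, rfl⟩
      · rintro ⟨a, rfl⟩
        exact ⟨Ideal.Quotient.mk 𝔐 a, rfl⟩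
    exact isArtinian_of_range_eq_ker g (Algebra.linearMap A A₀) hg
  -- R → A is local
  haveI hlocψ : IsLocalHom ψ.toRingHom := IsLocalHom.of_surjective ψ.toRingHom hψs
  haveI hlocRA : IsLocalHom (algebraMap R A) := by
    have h1 : q.toRingHom.comp (algebraMap R A) = ψ.toRingHom.comp (algebraMap R S) := by
      ext r
      simp
    haveI : IsLocalHom (q.toRingHom.comp (algebraMap R A)) := by
      rw [h1]; infer_instance
    exact isLocalHom_of_comp (algebraMap R A) q.toRingHom
  -- the ideal J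
  set J : Ideal A := Ideal.span {t} with hJ
  have hJ2 : J ^ 2 = ⊥ := by
    rw [hJ, Ideal.span_singleton_pow, pow_two, htt]
    simp
  have hJlen : Module.length A J = 1 := by
    rw [Module.length_eq_one_iff]
    have htors : Ideal.torsionOf A A t = 𝔐 := by
      symm
      apply h𝔐.eq_of_le
      · intro h1
        have : (1 : A) ∈ Ideal.torsionOf A A t := by rw [h1]; trivial
        rw [Ideal.mem_torsionOf_iff, one_smul] at this
        exact ht0 this
      · intro m hm
        rw [Ideal.mem_torsionOf_iff, smul_eq_mul]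
        exact hann m hm
    haveI : IsSimpleModule A (A ⧸ Ideal.torsionOf A A t) := by
      rw [isSimpleModule_iff_isCoatom, htors, ← Ideal.isMaximal_def]
      exact h𝔐
    exact IsSimpleModule.congr (Ideal.quotTorsionOfEquivSpanSingleton A A t).symm
  haveI hntJ : Nontrivial (A ⧸ J) := by
    rw [Ideal.Quotient.nontrivial_iff]
    intro h1
    exact h𝔐.ne_top (top_le_iff.1 (h1 ▸ hspanle))
  haveI hlocAJ : IsLocalRing (A ⧸ J) :=
    IsLocalRing.of_surjective' (Ideal.Quotient.mk J) Ideal.Quotient.mk_surjective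
  let e : (A ⧸ J) ≃ₐ[R] A₀ :=
    (Ideal.quotientEquivAlgOfEq R hker.symm).trans (Ideal.quotientKerAlgEquivOfSurjective hq)
  have he : ∀ a, e (Ideal.Quotient.mk J a) = q a := fun a => rfl
  let ψ' : S →ₐ[R] A ⧸ J := e.symm.toAlgHom.comp ψ
  have hψ's : Function.Surjective ψ' := e.symm.surjective.comp hψs
  haveI hlocψ' : IsLocalHom ψ'.toRingHom := IsLocalHom.of_surjective ψ'.toRingHom hψ's
  have hbij : Function.Bijective (ResidueField.map ψ'.toRingHom) := by
    refine ⟨RingHom.injective _, fun x => ?_⟩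
    obtain ⟨y, rfl⟩ := IsLocalRing.residue_surjective x
    obtain ⟨s, rfl⟩ := hψ's y
    exact ⟨IsLocalRing.residue S s, ResidueField.map_residue _ _⟩
  obtain ⟨χ, hχ⟩ := H A J hJ2 hJlen ψ' hbij
  refine ⟨χ, ?_⟩
  ext s
  have h1 : Ideal.Quotient.mk J (χ s) = ψ' s := AlgHom.congr_fun hχ s
  change q (χ s) = ψ s
  rw [← he, h1]
  exact e.apply_symm_apply (ψ s)


theorem exists_pow_map_eq_zero {S B : Type u} [CommRing S] [CommRing B] [IsLocalRing S]
    [IsLocalRing B] [IsArtinianRing B] (ψ : S →+* B) [IsLocalHom ψ] :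
    ∃ k : ℕ, ∀ x ∈ maximalIdeal S ^ k, ψ x = 0 := by
  obtain ⟨n, hn⟩ := IsArtinianRing.isNilpotent_jacobson_bot (R := B)
  rw [IsLocalRing.jacobson_eq_maximalIdeal ⊥ bot_ne_top] at hn
  refine ⟨n, fun x hx => ?_⟩
  have h1 : ψ x ∈ Ideal.map ψ (maximalIdeal S ^ n) := Ideal.mem_map_of_mem _ hx
  rw [Ideal.map_pow] at h1
  have h2 := Ideal.pow_right_mono (IsLocalRing.map_maximalIdeal_le ψ) n h1
  rw [hn] at h2
  exact h2

theorem main9316 {R S : Type u} [CommRing R] [CommRing S]
    [IsLocalRing R] [IsLocalRing S] [IsNoetherianRing S] [Algebra R S] [IsLocalHom (algebraMap R S)] :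
    CAlgX.IsAdicFormallySmooth R S (maximalIdeal S) ↔
      ∀ (A : Type u) [CommRing A] [IsLocalRing A] [IsArtinianRing A] [Algebra R A]
        [IsLocalHom (algebraMap R A)] (J : Ideal A), J ^ 2 = ⊥ → Module.length A J = 1 →
        ∀ [IsLocalRing (A ⧸ J)] (ψ : S →ₐ[R] A ⧸ J) [IsLocalHom ψ.toRingHom],
          Function.Bijective (ResidueField.map ψ.toRingHom) →
          ∃ χ : S →ₐ[R] A, (Ideal.Quotient.mkₐ R J).comp χ = ψ := by
  constructor
  · intro h A _ _ _ _ _ J hJ _ _ ψ _ _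
    exact h A J hJ ψ (exists_pow_map_eq_zero ψ.toRingHom)
  · intro H
    exact isAdicFormallySmooth_of_smallLift (smallLift_of_artinian H)

end H5.AL
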