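import Groth.Agent.Lib.Helper5.AL.AL3
import Groth.Agent.Lib.Helper5.CA.AdicFS
import Groth.Prelude.Def_ArtFun2

universe u v

namespace H5.AL

open Ideal IsLocalRing CategoryTheory

/-- In the situation of a small extension receiving a surjection from a Noetherian local ring,
both rings are Artinian local. -/
theorem small_ext_artinian_local {S A A₀ : Type u} [CommRing S] [IsLocalRing S] [IsNoetherianRing S]
    [CommRing A] [CommRing A₀] (q : A →+* A₀) (hq : Function.Surjective q)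
    (𝔐 : Ideal A) [h𝔐 : 𝔐.IsMaximal] (t : A) (ht : t ∈ 𝔐) (hker : RingHom.ker q = Ideal.span {t})
    (hann : ∀ m ∈ 𝔐, m * t = 0) (ψ : S →+* A₀) (hψs : Function.Surjective ψ)
    (hψk : ∃ k, ∀ x ∈ maximalIdeal S ^ k, ψ x = 0) :
    IsLocalRing A ∧ IsArtinianRing A ∧ IsLocalRing A₀ ∧ IsArtinianRing A₀ := by
  have hmemker : ∀ a, q a = 0 ↔ a ∈ Ideal.span {t} := fun a => by
    rw [← hker, RingHom.mem_ker]
  have htt : t * t = 0 := hann t ht
  have hsq : ∀ x y, q x = 0 → q y = 0 → x * y = 0 := by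
    intro x y hx hy
    rw [hmemker] at hx hy
    obtain ⟨a, rfl⟩ := Ideal.mem_span_singleton'.1 hx
    obtain ⟨b, rfl⟩ := Ideal.mem_span_singleton'.1 hy
    calc a * t * (b * t) = a * b * (t * t) := by ring
      _ = 0 := by rw [htt, mul_zero]
  have hspanle : Ideal.span {t} ≤ 𝔐 := (Ideal.span_singleton_le_iff_mem _).2 ht
  haveI hnt : Nontrivial A₀ := by
    refine ⟨⟨0, 1, fun h01 => ?_⟩⟩
    have : q 1 = 0 := by rw [map_one]; exact h01.symm
    rw [hmemker] at this
    exact h𝔐.ne_top ((Ideal.eq_top_iff_one _).2 (hspanle this))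
  haveI hlocA₀ : IsLocalRing A₀ := IsLocalRing.of_surjective' ψ hψs
  haveI hlocq : IsLocalHom q := isLocalHom_of_sq_zero q hq hsq
  haveI hlocA : IsLocalRing A := RingHom.domain_isLocalRing q
  obtain ⟨k, hk⟩ := hψk
  have hk0 : k ≠ 0 := by
    rintro rfl
    have : ψ 1 = 0 := hk 1 (by simp)
    rw [map_one] at this
    exact one_ne_zero this
  haveI hartS : IsArtinianRing (S ⧸ maximalIdeal S ^ k) := by
    have hmin : maximalIdeal S ∈ (maximalIdeal S ^ k).minimalPrimes := by
      refine ⟨⟨inferInstance, Ideal.pow_le_self hk0⟩, fun q ⟨hq1, hq2⟩ _ => ?_⟩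
      exact hq1.le_of_pow_le hq2
    exact IsLocalRing.quotient_artinian_of_mem_minimalPrimes_of_isLocalRing _ hmin
  haveI hartA₀ : IsArtinianRing A₀ := by
    let ψb : S ⧸ maximalIdeal S ^ k →+* A₀ := Ideal.Quotient.lift _ ψ hk
    have : Function.Surjective ψb := by
      intro x
      obtain ⟨s, rfl⟩ := hψs x
      exact ⟨Ideal.Quotient.mk _ s, rfl⟩
    exact this.isArtinianRing
  haveI hartA : IsArtinianRing A := by
    letI : Algebra A A₀ := q.toAlgebra
    haveI : IsArtinian A A₀ := isArtinian_of_surjective_algebraMap (S := A) (R := A₀) (M := A₀) hq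
    letI : Field (A ⧸ 𝔐) := Ideal.Quotient.field 𝔐
    haveI : IsArtinian A (A ⧸ 𝔐) :=
      isArtinian_of_surjective_algebraMap (S := A) (R := A ⧸ 𝔐) (M := A ⧸ 𝔐)
        Ideal.Quotient.mk_surjective
    let g : (A ⧸ 𝔐) →ₗ[A] A := Submodule.liftQ 𝔐 (LinearMap.toSpanSingleton A A t) (by
      intro m hm
      rw [LinearMap.mem_ker, LinearMap.toSpanSingleton_apply, smul_eq_mul]
      exact hann m hm)
    have hg : LinearMap.range g = LinearMap.ker (Algebra.linearMap A A₀) := by
      ext x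
      rw [LinearMap.mem_ker, Algebra.linearMap_apply]
      change _ ↔ q x = 0
      rw [hmemker, Ideal.mem_span_singleton']
      constructor
      · rintro ⟨y, rfl⟩
        obtain ⟨a, rfl⟩ := Ideal.Quotient.mk_surjective y
        exact ⟨a, rfl⟩
      · rintro ⟨a, rfl⟩
        exact ⟨Ideal.Quotient.mk 𝔐 a, rfl⟩
    exact isArtinian_of_range_eq_ker g (Algebra.linearMap A A₀) hg
  exact ⟨hlocA, hartA, hlocA₀, hartA₀⟩


theorem ker_res_eq {Λ : Type u} {k : Type u} [CommRing Λ] [Field k] [Algebra Λ k]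
    (R : ArtFun.CRing Λ k) : RingHom.ker R.res = maximalIdeal R.carrier := by
  have hmax : (RingHom.ker (R.res : R.carrier →+* k)).IsMaximal :=
    RingHom.ker_isMaximal_of_surjective (R.res : R.carrier →+* k) R.res_surjective
  exact IsLocalRing.eq_maximalIdeal hmax

theorem isLocalHom_of_homSet {Λ : Type u} {k : Type u} [CommRing Λ] [Field k] [Algebra Λ k]
    (R : ArtFun.CRing Λ k) {A : ArtFun.Art Λ k} (φ : ArtFun.HomSet R.carrier R.res A) :
    IsLocalHom φ.1.toRingHom := by
  constructor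
  intro a ha
  by_contra hna
  have h1 : a ∈ maximalIdeal R.carrier := hna
  rw [← ker_res_eq R, RingHom.mem_ker] at h1
  have h2 : A.res (φ.1 a) = 0 := by
    have := AlgHom.congr_fun φ.2 a
    rw [AlgHom.comp_apply] at this
    rw [this]; exact h1
  rw [← ArtFun.Art.mem_maximalIdeal_iff] at h2
  exact h2 ha

theorem main12721 {Λ : Type u} {k : Type u} [CommRing Λ] [Field k] [Algebra Λ k]
    (R : ArtFun.CRing Λ k) :
    ArtFun.IsSmoothFunctor (ArtFun.hR R.carrier R.res) ↔
      CAlgX.IsAdicFormallySmooth Λ R.carrier (IsLocalRing.maximalIdeal R.carrier) := by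
  constructor
  · intro hsm
    apply isAdicFormallySmooth_of_smallLift
    intro A A₀ _ _ _ _ q hq 𝔐 h𝔐 t ht hkerq hann ψ hψs hψk
    obtain ⟨hlA, haA, hlA₀, haA₀⟩ := small_ext_artinian_local q.toRingHom hq 𝔐 t ht hkerq hann
      ψ.toRingHom hψs hψk
    haveI : IsLocalHom ψ.toRingHom := IsLocalHom.of_surjective ψ.toRingHom hψs
    have hle : RingHom.ker ψ.toRingHom ≤ RingHom.ker R.res.toRingHom := by
      intro x hx
      change x ∈ RingHom.ker R.res
      rw [ker_res_eq R]
      intro hu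
      rw [RingHom.mem_ker] at hx
      have := (ψ.toRingHom.isUnit_map hu)
      rw [hx] at this
      exact not_isUnit_zero this
    let res₀ : A₀ →ₐ[Λ] k := AlgHom.liftOfSurjective ψ hψs R.res hle
    have hres₀ : res₀.comp ψ = R.res := AlgHom.liftOfSurjective_comp ψ hψs R.res hle
    have hres₀s : Function.Surjective res₀ :=
      AlgHom.liftOfSurjective_surjective ψ hψs R.res hle R.res_surjective
    let AA₀ : ArtFun.Art Λ k := ArtFun.Art.of A₀ res₀ hres₀s
    let AA : ArtFun.Art Λ k := ArtFun.Art.of A (res₀.comp q) (hres₀s.comp hq)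
    let μ : AA ⟶ AA₀ := ArtFun.Art.homMk q rfl
    obtain ⟨φ', hφ'⟩ := hsm μ hq (⟨ψ, hres₀⟩ : ArtFun.HomSet R.carrier R.res AA₀)
    refine ⟨φ'.1, ?_⟩
    exact congrArg Subtype.val hφ'
  · intro hfs B A μ hμ φ
    rw [Groth.Agent.H5.AdicFS.isAdicFormallySmooth_iff_bot] at hfs
    haveI := isLocalHom_of_homSet R φ
    have hnil : IsNilpotent (RingHom.ker μ.toAlgHom) := by
      obtain ⟨n, hn⟩ := IsArtinianRing.isNilpotent_jacobson_bot (R := B.carrier)
      rw [IsLocalRing.jacobson_eq_maximalIdeal ⊥ bot_ne_top] at hn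
      refine ⟨n, ?_⟩
      rw [Ideal.zero_eq_bot] at hn ⊢
      rw [eq_bot_iff, ← hn]
      apply Ideal.pow_right_mono
      apply IsLocalRing.le_maximalIdeal
      intro htop
      have : (1 : B.carrier) ∈ RingHom.ker μ.toAlgHom := by rw [htop]; trivial
      rw [RingHom.mem_ker, map_one] at this
      exact one_ne_zero this
    let e : (B.carrier ⧸ RingHom.ker μ.toAlgHom) ≃ₐ[Λ] A.carrier :=
      Ideal.quotientKerAlgEquivOfSurjective hμ
    have he : ∀ b, e (Ideal.Quotient.mk _ b) = μ.toAlgHom b := fun b => rfl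
    obtain ⟨v, hv⟩ := hfs B.carrier (RingHom.ker μ.toAlgHom) hnil
      ⟨1, by rw [pow_one, Ideal.map_bot]⟩ (e.symm.toAlgHom.comp φ.1) (by
        obtain ⟨n, hn⟩ := exists_pow_map_eq_zero φ.1.toRingHom
        refine ⟨n, fun x hx => ?_⟩
        have : φ.1 x = 0 := hn x hx
        rw [AlgHom.comp_apply, this, map_zero])
    have hμv : μ.toAlgHom.comp v = φ.1 := by
      ext x
      have h1 : Ideal.Quotient.mk _ (v x) = e.symm (φ.1 x) := AlgHom.congr_fun hv x
      rw [AlgHom.comp_apply, ← he, h1]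
      exact e.apply_symm_apply _
    refine ⟨⟨v, ?_⟩, Subtype.ext hμv⟩
    rw [← μ.res_comp, AlgHom.comp_assoc, hμv, φ.2]

end H5.AL
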