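import Groth.Agent.Lib.Helper5.AL.AL4
import Groth.Agent.Lib.Helper5.Jac.Jac3

universe u

namespace H5.AL

open Ideal IsLocalRing

theorem main2060 {R S : Type u} [CommRing R] [IsNoetherianRing R]
    [CommRing S] [Algebra R S] [Algebra.FiniteType R S] (q : Ideal S) [q.IsPrime] :
    Algebra.IsSmoothAt R q ↔
      ∀ (B' B : Type u) [CommRing B'] [CommRing B] [IsLocalRing B'] [IsLocalRing B]
        [IsArtinianRing B'] [IsArtinianRing B] [Algebra R B'] [Algebra R B] (π : B' →ₐ[R] B),
        Function.Surjective π →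
        (∃ t : B', RingHom.ker π.toRingHom = Ideal.span {t} ∧
          ∀ a ∈ IsLocalRing.maximalIdeal B', a * t = 0) →
        ∀ g : S →ₐ[R] B, (IsLocalRing.maximalIdeal B).comap g = q →
          ∃ g' : S →ₐ[R] B', π.comp g' = g := by
  constructor
  · intro hsm B' B _ _ _ _ _ _ _ _ π hπ ⟨t, hker, hann⟩ g hg
    haveI : Algebra.FormallySmooth R (Localization.AtPrime q) := hsm
    have hunit : ∀ y : q.primeCompl, IsUnit (g y) := by
      intro y
      by_contra hy
      have : (y : S) ∈ (IsLocalRing.maximalIdeal B).comap g := hy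
      rw [hg] at this
      exact y.2 this
    let gq : Localization.AtPrime q →ₐ[R] B := IsLocalization.liftAlgHom (M := q.primeCompl) hunit
    have hgq : ∀ s : S, gq (algebraMap S _ s) = g s := fun s => by
      simp [gq]
    have htm : t ∈ maximalIdeal B' := by
      intro hu
      have h1 : RingHom.ker π.toRingHom = ⊤ := by
        rw [hker]
        exact Ideal.span_singleton_eq_top.2 hu
      have : (1 : B') ∈ RingHom.ker π.toRingHom := by rw [h1]; trivial
      rw [RingHom.mem_ker, map_one] at this
      exact one_ne_zero this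
    have hnil : IsNilpotent (RingHom.ker (π : B' →+* B)) := by
      refine ⟨2, ?_⟩
      change RingHom.ker π.toRingHom ^ 2 = ⊥
      rw [hker, Ideal.span_singleton_pow, pow_two, hann t htm]
      simp
    refine ⟨(Algebra.FormallySmooth.liftOfSurjective gq π hπ hnil).comp
      (IsScalarTower.toAlgHom R S (Localization.AtPrime q)), ?_⟩
    ext s
    rw [AlgHom.comp_apply, AlgHom.comp_apply, Algebra.FormallySmooth.liftOfSurjective_apply]
    exact hgq s
  · intro H
    change Algebra.FormallySmooth R (Localization.AtPrime q)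
    apply Groth.Agent.H5.Jac.formallySmooth_of_isAdicFormallySmooth_of_essFiniteType
    apply isAdicFormallySmooth_of_smallLift
    intro A A₀ _ _ _ _ q₀ hq₀ 𝔐 h𝔐 t ht hkerq hann ψ hψs hψk
    haveI : IsNoetherianRing S := Algebra.FiniteType.isNoetherianRing R S
    haveI : IsNoetherianRing (Localization.AtPrime q) :=
      IsLocalization.isNoetherianRing q.primeCompl _ inferInstance
    obtain ⟨hlA, haA, hlA₀, haA₀⟩ := small_ext_artinian_local q₀.toRingHom hq₀ 𝔐 t ht hkerq hann
      ψ.toRingHom hψs hψk
    have h𝔐eq : 𝔐 = maximalIdeal A := IsLocalRing.eq_maximalIdeal h𝔐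
    haveI : IsLocalHom ψ.toRingHom := IsLocalHom.of_surjective ψ.toRingHom hψs
    let g : S →ₐ[R] A₀ := ψ.comp (IsScalarTower.toAlgHom R S (Localization.AtPrime q))
    have hg : (IsLocalRing.maximalIdeal A₀).comap g = q := by
      have h1 : (IsLocalRing.maximalIdeal A₀).comap ψ.toRingHom
          = maximalIdeal (Localization.AtPrime q) := IsLocalRing.maximalIdeal_comap ψ.toRingHom
      have h2 := Localization.AtPrime.under_maximalIdeal (I := q)
      rw [← h2, ← h1]
      rfl
    obtain ⟨g', hg'⟩ := H A A₀ q₀ hq₀ ⟨t, hkerq, fun a ha => hann a (h𝔐eq ▸ ha)⟩ g hg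
    have hmemker : ∀ a, q₀ a = 0 ↔ a ∈ Ideal.span {t} := fun a => by
      rw [← hkerq, RingHom.mem_ker]
    have htt : t * t = 0 := hann t ht
    have hsq : ∀ x y, q₀.toRingHom x = 0 → q₀.toRingHom y = 0 → x * y = 0 := by
      intro x y hx hy
      change q₀ x = 0 at hx
      change q₀ y = 0 at hy
      rw [hmemker] at hx hy
      obtain ⟨a, rfl⟩ := Ideal.mem_span_singleton'.1 hx
      obtain ⟨b, rfl⟩ := Ideal.mem_span_singleton'.1 hy
      calc a * t * (b * t) = a * b * (t * t) := by ring
        _ = 0 := by rw [htt, mul_zero]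
    haveI hlocq : IsLocalHom q₀.toRingHom := isLocalHom_of_sq_zero q₀.toRingHom hq₀ hsq
    have hunit : ∀ y : q.primeCompl, IsUnit (g' y) := by
      intro y
      apply isUnit_of_map_unit q₀.toRingHom
      have h1 : q₀ (g' y) = g y := AlgHom.congr_fun hg' y
      change IsUnit (q₀ (g' y))
      rw [h1]
      change IsUnit (ψ (algebraMap S (Localization.AtPrime q) y))
      exact (IsLocalization.map_units (Localization.AtPrime q) y).map ψ
    let χ : Localization.AtPrime q →ₐ[R] A := IsLocalization.liftAlgHom (M := q.primeCompl) hunit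
    refine ⟨χ, ?_⟩
    apply AlgHom.coe_ringHom_injective
    apply IsLocalization.ringHom_ext q.primeCompl
    ext s
    have h1 : q₀ (g' s) = g s := AlgHom.congr_fun hg' s
    simp only [RingHom.comp_apply, AlgHom.coe_toRingHom, AlgHom.comp_apply]
    have h2 : χ (algebraMap S (Localization.AtPrime q) s) = g' s := by simp [χ]
    rw [h2, h1]
    rfl

end H5.AL
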