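import Groth.Agent.Lib.Helper5.AL.AL4
import Groth.Agent.Lib.Helper5.CA.GR2
import Groth.Agent.Lib.Helper5.CA.PerfGR

universe u

namespace H5.AL

open Ideal IsLocalRing

theorem finite_of_artinian_of_residue {k B : Type u} [Field k] [CommRing B] [Algebra k B]
    [IsLocalRing B] [IsArtinianRing B]
    (h : ∀ b : B, ∃ c : k, b - algebraMap k B c ∈ maximalIdeal B) : Module.Finite k B := by
  haveI : Module.Finite k (B ⧸ Ring.jacobson B) := by
    apply Module.Finite.of_surjective (Algebra.linearMap k (B ⧸ Ring.jacobson B))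
    intro x
    obtain ⟨b, rfl⟩ := Ideal.Quotient.mk_surjective x
    obtain ⟨c, hc⟩ := h b
    refine ⟨c, ?_⟩
    rw [Algebra.linearMap_apply]
    symm
    change Ideal.Quotient.mk _ b = Ideal.Quotient.mk _ (algebraMap k B c)
    rw [Ideal.Quotient.eq, IsLocalRing.ringJacobson_eq_maximalIdeal]
    exact hc
  exact IsSemiprimaryRing.finite_of_isArtinian k B B

theorem main11451 (k : Type u) [Field k] [IsAlgClosed k]
    (A : Type u) [CommRing A] [IsLocalRing A] [Algebra k A] [Algebra.EssFiniteType k A]
    (hres : Function.Surjective (algebraMap k (IsLocalRing.ResidueField A))) :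
    IsRegularLocalRing A ↔
      ∀ (B' : Type u) [CommRing B'] [IsLocalRing B'] [Algebra k B'] [Module.Finite k B']
        (J : Ideal B'), J ^ 2 = ⊥ → ∀ f : A →ₐ[k] B' ⧸ J,
          ∃ g : A →ₐ[k] B', (Ideal.Quotient.mkₐ k J).comp g = f := by
  haveI : IsNoetherianRing A := Algebra.EssFiniteType.isNoetherianRing k A
  haveI : Algebra.IsGeometricallyReduced k (ResidueField A) :=
    Groth.Agent.H5.isGeometricallyReduced_of_perfectField k _
  have hresA : ∀ a : A, ∃ c : k, a - algebraMap k A c ∈ maximalIdeal A := by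
    intro a
    obtain ⟨c, hc⟩ := hres (residue A a)
    refine ⟨c, ?_⟩
    rw [← IsLocalRing.residue_eq_zero_iff, map_sub, sub_eq_zero, ← hc]
    rfl
  constructor
  · intro hreg B' _ _ _ _ J hJ f
    have hfs : CAlgX.IsAdicFormallySmooth k A (maximalIdeal A) :=
      ((Groth.Agent.H5.FSField.tfae k A).out 3 0).mp hreg
    haveI : IsArtinianRing B' := IsArtinianRing.of_finite k B'
    have hJtop : J ≠ ⊤ := by
      rintro rfl
      have h1 : (1 : B') ∈ (⊤ : Ideal B') ^ 2 := by rw [Ideal.top_pow]; trivial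
      rw [hJ] at h1
      exact one_ne_zero h1
    haveI : Nontrivial (B' ⧸ J) := Ideal.Quotient.nontrivial_iff.2 hJtop
    haveI : IsLocalRing (B' ⧸ J) :=
      IsLocalRing.of_surjective' (Ideal.Quotient.mk J) Ideal.Quotient.mk_surjective
    -- `f` is local
    haveI : IsLocalHom f.toRingHom := by
      constructor
      intro a ha
      by_contra hna
      have h1 : a ∈ maximalIdeal A := hna
      -- a = c + m ... but a ∈ m so use: f a is nilpotent
      -- the composite A → B'/J → residue field is surjective from k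
      let ρ : A →+* ResidueField (B' ⧸ J) := (residue (B' ⧸ J)).comp f.toRingHom
      have hρs : Function.Surjective ρ := by
        intro y
        haveI : Module.Finite k (B' ⧸ J) :=
          Module.Finite.of_surjective (Ideal.Quotient.mkₐ k J).toLinearMap
            Ideal.Quotient.mk_surjective
        haveI : Module.Finite k (ResidueField (B' ⧸ J)) :=
          Module.Finite.of_surjective
            (IsScalarTower.toAlgHom k (B' ⧸ J) (ResidueField (B' ⧸ J))).toLinearMap
            IsLocalRing.residue_surjective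
        obtain ⟨c, hc⟩ := (IsAlgClosed.algebraMap_bijective_of_isIntegral
          (k := k) (K := ResidueField (B' ⧸ J))).2 y
        refine ⟨algebraMap k A c, ?_⟩
        change residue _ (f (algebraMap k A c)) = y
        rw [AlgHom.commutes, ← hc]
        rfl
      have hmax : (RingHom.ker ρ).IsMaximal := RingHom.ker_isMaximal_of_surjective ρ hρs
      have hker : RingHom.ker ρ = maximalIdeal A := IsLocalRing.eq_maximalIdeal hmax
      rw [← hker, RingHom.mem_ker] at h1
      have h2 : f a ∈ maximalIdeal (B' ⧸ J) := (IsLocalRing.residue_eq_zero_iff _).1 h1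
      exact h2 ha
    exact hfs B' J hJ f (exists_pow_map_eq_zero f.toRingHom)
  · intro H
    apply Groth.Agent.H5.GR.isRegularLocalRing_of_isAdicFormallySmooth k A
    apply isAdicFormallySmooth_of_smallLift
    intro A' A₀ _ _ _ _ q₀ hq₀ 𝔐 h𝔐 t ht hkerq hann ψ hψs hψk
    obtain ⟨hlA, haA, hlA₀, haA₀⟩ := small_ext_artinian_local q₀.toRingHom hq₀ 𝔐 t ht hkerq hann
      ψ.toRingHom hψs hψk
    have h𝔐eq : 𝔐 = maximalIdeal A' := IsLocalRing.eq_maximalIdeal h𝔐
    haveI : IsLocalHom ψ.toRingHom := IsLocalHom.of_surjective ψ.toRingHom hψs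
    have hmemker : ∀ a, q₀ a = 0 ↔ a ∈ Ideal.span {t} := fun a => by
      rw [← hkerq, RingHom.mem_ker]
    have htt : t * t = 0 := hann t ht
    have hsq : ∀ x y, q₀.toRingHom x = 0 → q₀.toRingHom y = 0 → x * y = 0 := by
      intro x y hx hy
      change q₀ x = 0 at hx
      change q₀ y = 0 at hy
      rw [hmemker] at hx hy
      obtain ⟨a, rfl⟩ := Ideal.mem_span_singleton'.1 hx
      obtain ⟨b, rfl⟩ := Ideal.mem_span_singleton'.1 hy
      calc a * t * (b * t) = a * b * (t * t) := by ring
        _ = 0 := by rw [htt, mul_zero]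
    haveI hlocq : IsLocalHom q₀.toRingHom := isLocalHom_of_sq_zero q₀.toRingHom hq₀ hsq
    haveI : Module.Finite k A' := by
      apply finite_of_artinian_of_residue
      intro b
      obtain ⟨a, ha⟩ := hψs (q₀ b)
      obtain ⟨c, hc⟩ := hresA a
      refine ⟨c, ?_⟩
      have h1 : q₀ (b - algebraMap k A' c) = ψ (a - algebraMap k A c) := by
        rw [map_sub, map_sub, AlgHom.commutes, AlgHom.commutes, ha]
      have h2 : ψ (a - algebraMap k A c) ∈ maximalIdeal A₀ :=
        map_nonunit ψ.toRingHom _ hc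
      rw [← h1] at h2
      intro hu
      exact h2 (hu.map q₀)
    -- apply H
    set J : Ideal A' := Ideal.span {t} with hJ
    have hJ2 : J ^ 2 = ⊥ := by
      rw [hJ, Ideal.span_singleton_pow, pow_two, htt]
      simp
    let e : (A' ⧸ J) ≃ₐ[k] A₀ :=
      (Ideal.quotientEquivAlgOfEq k hkerq.symm).trans (Ideal.quotientKerAlgEquivOfSurjective hq₀)
    have he : ∀ a, e (Ideal.Quotient.mk J a) = q₀ a := fun a => rfl
    obtain ⟨χ, hχ⟩ := H A' J hJ2 (e.symm.toAlgHom.comp ψ)
    refine ⟨χ, ?_⟩
    ext s
    have h1 : Ideal.Quotient.mk J (χ s) = e.symm (ψ s) := AlgHom.congr_fun hχ s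
    change q₀ (χ s) = ψ s
    rw [← he, h1]
    exact e.apply_symm_apply (ψ s)

end H5.AL
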